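import Groth.Agent.H18Subint.Iso
import Mathlib.RingTheory.TensorProduct.Basic
import Mathlib.RingTheory.Localization.Away.Basic
import Mathlib.RingTheory.Ideal.Quotient.Nilpotent
import Mathlib.FieldTheory.PerfectClosure

/-!
# Absolute weak normalizations of rings
-/

set_option autoImplicit false

universe u

open AlgebraicGeometry TensorProduct

namespace Groth.Agent.H18Subint

open H17.UnivHomeoAlg

variable {A B : Type u} [CommRing A] [CommRing B] [Algebra A B]

omit [Algebra A B] in
theorem isUnivHomeo_iff' (φ : A →+* B) :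
    FlatMor.IsUnivHomeo (Spec.map (CommRingCat.ofHom φ)) ↔
      letI := φ.toAlgebra
      Algebra.IsIntegral A B ∧ Uq A B ∧ Lf A B := by
  letI := φ.toAlgebra
  exact isUnivHomeo_iff (A := A) (B := B)

theorem ker_nilpotent (hl : Lf A B) (a : A) (ha : algebraMap A B a = 0) : IsNilpotent a := by
  refine nilpotent_iff_mem_prime.mpr fun P hP => ?_
  obtain ⟨ψ, hψ⟩ := hl (AlgebraicClosure P.ResidueField)
    ((algebraMap P.ResidueField _).comp (algebraMap A P.ResidueField))
  have h := DFunLike.congr_fun hψ a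
  rw [RingHom.comp_apply, ha, map_zero, RingHom.comp_apply] at h
  exact Ideal.algebraMap_residueField_eq_zero.mp
    ((algebraMap P.ResidueField (AlgebraicClosure P.ResidueField)).injective (h.symm.trans (map_zero _).symm))

theorem injective_of_isReduced [_root_.IsReduced A] (hl : Lf A B) : Function.Injective (algebraMap A B) :=
  (injective_iff_map_eq_zero _).mpr fun a ha => (ker_nilpotent hl a ha).eq_zero

section ToReduced

theorem uq_quotient_nilradical (hu : Uq A B) : Uq A (B ⧸ nilradical B) := fun L _ ψ ψ' h =>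
  Ideal.Quotient.ringHom_ext (hu L (ψ.comp (Ideal.Quotient.mk _)) (ψ'.comp (Ideal.Quotient.mk _)) h)

theorem rg_quotient_nilradical (hr : Rg A B) : Rg A (B ⧸ nilradical B) := fun L _ ψ F hF c => by
  obtain ⟨c, rfl⟩ := Ideal.Quotient.mk_surjective c
  exact hr L (ψ.comp (Ideal.Quotient.mk _)) F hF c

theorem lf_quotient_nilradical (hl : Lf A B) : Lf A (B ⧸ nilradical B) := fun K _ _ φ => by
  obtain ⟨ψ, hψ⟩ := hl K φ
  exact ⟨Ideal.Quotient.lift _ ψ fun b hb => (IsNilpotent.map (mem_nilradical.mp hb) ψ).eq_zero, hψ⟩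

instance isReduced_quotient_nilradical : _root_.IsReduced (B ⧸ nilradical B) :=
  (Ideal.isRadical_iff_quotient_reduced _).mp (Ideal.radical_isRadical _)

end ToReduced

/-- An absolutely weakly normal ring receives retractions from all its universal homeomorphisms. -/
theorem exists_retraction (hawn : HTop.IsAWNRing A) (hi : Algebra.IsIntegral A B) (hu : Uq A B) (hl : Lf A B) :
    ∃ r : B →+* A, r.comp (algebraMap A B) = RingHom.id A := by
  haveI := isReduced_of_sn hawn.1
  haveI := hi
  have hl' := lf_quotient_nilradical hl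
  let e := RingEquiv.ofBijective _ (bijective_of_awn (B := B ⧸ nilradical B) hawn
    (injective_of_isReduced hl') (uq_quotient_nilradical hu))
  exact ⟨e.symm.toRingHom.comp (Ideal.Quotient.mk _), RingHom.ext fun a => e.symm_apply_apply a⟩

/-- Two maps to a reduced ring agreeing on `A` agree. -/
theorem ringHom_ext_of_uq {W : Type u} [CommRing W] [_root_.IsReduced W] (hu : Uq A B) {χ χ' : B →+* W}
    (h : χ.comp (algebraMap A B) = χ'.comp (algebraMap A B)) : χ = χ' :=
  RingHom.ext fun b => eq_of_forall_field fun L _ r =>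
    DFunLike.congr_fun (hu L (r.comp χ) (r.comp χ') (by rw [RingHom.comp_assoc, h, RingHom.comp_assoc])) b

theorem uq_baseChange {W : Type u} [CommRing W] [Algebra A W] (hu : Uq A B) : Uq W (W ⊗[A] B) :=
  fun L _ ψ ψ' h => by
  have hB : ψ.comp (Algebra.TensorProduct.includeRight : B →ₐ[A] W ⊗[A] B).toRingHom =
      ψ'.comp (Algebra.TensorProduct.includeRight : B →ₐ[A] W ⊗[A] B).toRingHom := by
    refine hu L _ _ (RingHom.ext fun a => ?_)
    show ψ (Algebra.TensorProduct.includeRight (algebraMap A B a)) =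
      ψ' (Algebra.TensorProduct.includeRight (algebraMap A B a))
    rw [AlgHom.commutes, IsScalarTower.algebraMap_apply A W (W ⊗[A] B)]
    exact DFunLike.congr_fun h _
  refine RingHom.ext fun z => ?_
  induction z with
  | zero => rw [map_zero, map_zero]
  | add x y hx hy => rw [map_add, map_add, hx, hy]
  | tmul w b =>
    have hwb : (w ⊗ₜ[A] b : W ⊗[A] B) = algebraMap W (W ⊗[A] B) w * ((1 : W) ⊗ₜ b) := by
      rw [Algebra.TensorProduct.algebraMap_apply, Algebra.algebraMap_self, RingHom.id_apply,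
        Algebra.TensorProduct.tmul_mul_tmul, mul_one, one_mul]
    rw [hwb, map_mul, map_mul]
    congr 1
    · exact DFunLike.congr_fun h w
    · exact DFunLike.congr_fun hB b

theorem lf_baseChange {W : Type u} [CommRing W] [Algebra A W] (hl : Lf A B) : Lf W (W ⊗[A] B) :=
  fun K _ _ φ => by
  obtain ⟨ψ, hψ⟩ := hl K (φ.comp (algebraMap A W))
  letI := (φ.comp (algebraMap A W)).toAlgebra
  let fW : W →ₐ[A] K := { φ with commutes' := fun _ => rfl }
  let fB : B →ₐ[A] K := { ψ with commutes' := fun a => DFunLike.congr_fun hψ a }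
  refine ⟨(Algebra.TensorProduct.lift fW fB fun _ _ => Commute.all _ _).toRingHom, RingHom.ext fun w => ?_⟩
  show Algebra.TensorProduct.lift fW fB (fun _ _ => Commute.all _ _) (w ⊗ₜ[A] 1) = φ w
  rw [Algebra.TensorProduct.lift_tmul, map_one, mul_one]
  rfl

theorem integral_baseChange {W : Type u} [CommRing W] [Algebra A W] [Algebra.IsIntegral A B] :
    Algebra.IsIntegral W (W ⊗[A] B) := by
  refine ⟨fun z => ?_⟩
  induction z with
  | zero => exact isIntegral_zero
  | add x y hx hy => exact hx.add hy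
  | tmul w b =>
    have h1 : IsIntegral A (1 ⊗ₜ[A] b : W ⊗[A] B) :=
      (Algebra.IsIntegral.isIntegral (R := A) b).map (Algebra.TensorProduct.includeRight : B →ₐ[A] W ⊗[A] B)
    have := (h1.tower_top (A := W)).smul w
    rwa [smul_tmul', smul_eq_mul, mul_one] at this

omit [Algebra A B] in
/-- A universal homeomorphism onto an absolutely weakly normal ring is an absolute weak normalization. -/
theorem isRingAWN_of_isAWNRing (φ : A →+* B)
    (hφ : FlatMor.IsUnivHomeo (Spec.map (CommRingCat.ofHom φ))) (hB : HTop.IsAWNRing B) :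
    HTop.IsRingAWN φ := by
  haveI := isReduced_of_sn hB.1
  refine ⟨hφ, fun C _ ψ hψ => ?_⟩
  letI := φ.toAlgebra
  letI := ψ.toAlgebra
  obtain ⟨hi, hu, hl⟩ := (isUnivHomeo_iff' ψ).mp hψ
  haveI := hi
  obtain ⟨r, hr⟩ := exists_retraction hB (integral_baseChange (W := B) (B := C))
    (uq_baseChange (W := B) hu) (lf_baseChange (W := B) hl)
  refine ⟨r.comp (Algebra.TensorProduct.includeRight : C →ₐ[A] B ⊗[A] C).toRingHom, RingHom.ext fun a => ?_,
    fun χ hχ => ringHom_ext_of_uq hu (hχ.trans (RingHom.ext fun a => ?_).symm)⟩ <;>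
  · show r (Algebra.TensorProduct.includeRight (algebraMap A C a)) = algebraMap A B a
    rw [AlgHom.commutes, IsScalarTower.algebraMap_apply A B (B ⊗[A] C)]
    exact DFunLike.congr_fun hr _

theorem uq_trans {C : Type u} [CommRing C] [Algebra B C] [Algebra A C] [IsScalarTower A B C]
    (h₁ : Uq A B) (h₂ : Uq B C) : Uq A C := fun L _ ψ ψ' h =>
  h₂ L ψ ψ' (h₁ L _ _ (by rw [RingHom.comp_assoc, ← IsScalarTower.algebraMap_eq A B C, h, RingHom.comp_assoc,
    ← IsScalarTower.algebraMap_eq A B C]))

theorem lf_trans {C : Type u} [CommRing C] [Algebra B C] [Algebra A C] [IsScalarTower A B C]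
    (h₁ : Lf A B) (h₂ : Lf B C) : Lf A C := fun K _ _ φ => by
  obtain ⟨χ, hχ⟩ := h₁ K φ
  obtain ⟨ω, hω⟩ := h₂ K χ
  exact ⟨ω, by rw [IsScalarTower.algebraMap_eq A B C, ← RingHom.comp_assoc, hω, hχ]⟩

omit [Algebra A B] in
/-- The target of an absolute weak normalization is absolutely weakly normal. -/
theorem isAWNRing_of_isRingAWN {φ : A →+* B} (h : HTop.IsRingAWN φ) : HTop.IsAWNRing B := by
  letI := φ.toAlgebra
  obtain ⟨hi, hu, hl⟩ := (isUnivHomeo_iff' φ).mp h.1
  haveI := hi
  -- retractions
  have key : ∀ (C : Type u) [CommRing C] [Algebra B C],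
      Algebra.IsIntegral B C → Uq B C → Lf B C →
        ∃ r : C →+* B, r.comp (algebraMap B C) = RingHom.id B := by
    intro C _ _ hiC huC hlC
    haveI := hiC
    letI : Algebra A C := ((algebraMap B C).comp φ).toAlgebra
    haveI : IsScalarTower A B C := IsScalarTower.of_algebraMap_eq fun _ => rfl
    have hC : FlatMor.IsUnivHomeo (Spec.map (CommRingCat.ofHom (algebraMap A C))) :=
      isUnivHomeo_iff.mpr ⟨Algebra.IsIntegral.trans (R := A) B, uq_trans hu huC, lf_trans hl hlC⟩
    obtain ⟨χ, hχ, -⟩ := h.2 C (algebraMap A C) hC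
    obtain ⟨ι, -, hιu⟩ := h.2 B φ h.1
    refine ⟨χ, (hιu _ ?_).trans (hιu _ (RingHom.id_comp φ)).symm⟩
    exact (RingHom.comp_assoc _ _ _).trans hχ
  have hsurj : Function.Surjective (algebraMap B (B ⧸ nilradical B)) := Ideal.Quotient.mk_surjective
  obtain ⟨r, hr⟩ := key (B ⧸ nilradical B) (Algebra.IsIntegral.of_finite B _)
    (fun L _ ψ ψ' h => Ideal.Quotient.ringHom_ext h) (fun K _ _ φ =>
      ⟨Ideal.Quotient.lift _ φ fun b hb => (IsNilpotent.map (mem_nilradical.mp hb) φ).eq_zero, rfl⟩)
  haveI : _root_.IsReduced B := isReduced_of_injective (algebraMap B (B ⧸ nilradical B))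
    (Function.LeftInverse.injective (g := r) fun b => DFunLike.congr_fun hr b)
  refine isAWNRing_of_retraction fun C _ _ hC => ?_
  obtain ⟨h1, h2, h3⟩ := isUnivHomeo_iff.mp hC
  exact key C h1 h2 h3

/-- The field points of a ring. -/
abbrev Pts (A : Type u) [CommRing A] : Type u :=
  ∀ p : PrimeSpectrum A, AlgebraicClosure p.asIdeal.ResidueField

/-- Every ring has an absolute weak normalization. -/
theorem exists_isRingAWN (A : Type u) [CommRing A] :
    ∃ (W : Type u) (_ : CommRing W) (φ : A →+* W), HTop.IsRingAWN φ := by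
  let P := Pts A
  let S : Set (Subalgebra A P) := {D | Algebra.IsIntegral A D ∧ Uq A D}
  let W : Subalgebra A P := sSup S
  have hle : W ≤ integralClosure A P := sSup_le fun D ⟨hD, _⟩ x hx =>
    (Algebra.IsIntegral.isIntegral (R := A) (⟨x, hx⟩ : D)).map D.val
  haveI hWi : Algebra.IsIntegral A W := ⟨fun x =>
    (isIntegral_algHom_iff W.val Subtype.val_injective).mp (hle x.2)⟩
  have hWu : Uq A W := fun L _ ψ ψ' h => by
    letI := (ψ.comp (algebraMap A W)).toAlgebra
    let f : W →ₐ[A] L := { ψ with commutes' := fun _ => rfl }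
    let f' : W →ₐ[A] L := { ψ' with commutes' := fun a => (DFunLike.congr_fun h a).symm }
    have hE : W ≤ (AlgHom.equalizer f f').map W.val := sSup_le fun D hD x hx => by
      have e := DFunLike.congr_fun (hD.2 L
        (ψ.comp (Subalgebra.inclusion (le_sSup (a := D) hD : D ≤ W)).toRingHom)
        (ψ'.comp (Subalgebra.inclusion (le_sSup (a := D) hD : D ≤ W)).toRingHom)
        (RingHom.ext fun a => DFunLike.congr_fun h a)) ⟨x, hx⟩
      exact ⟨⟨x, (le_sSup (a := D) hD : D ≤ W) hx⟩, e, rfl⟩
    refine RingHom.ext fun x => ?_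
    obtain ⟨y, hy, hyx⟩ := hE x.2
    rw [← Subtype.ext hyx]
    exact hy
  have hker : ∀ a, algebraMap A P a = 0 → IsNilpotent a := fun a ha =>
    nilpotent_iff_mem_prime.mpr fun p hp => by
      have h := congrFun ha ⟨p, hp⟩
      rw [Pi.algebraMap_apply, IsScalarTower.algebraMap_apply A p.ResidueField] at h
      exact Ideal.algebraMap_residueField_eq_zero.mp
        ((algebraMap p.ResidueField (AlgebraicClosure p.ResidueField)).injective (h.trans (map_zero _).symm))
  have hWl : Lf A W := lf_of_integral fun a ha => hker a (congrArg Subtype.val ha)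
  refine ⟨W, inferInstance, algebraMap A W, isUnivHomeo_iff.mpr ⟨hWi, hWu, hWl⟩, fun C _ ψ hψ => ?_⟩
  letI := ψ.toAlgebra
  obtain ⟨hi, hu, hl⟩ := (isUnivHomeo_iff' ψ).mp hψ
  haveI := hi
  choose χ hχ using fun p : PrimeSpectrum A => hl _ (algebraMap A (AlgebraicClosure p.asIdeal.ResidueField))
  let χP : C →ₐ[A] P := { Pi.ringHom χ with commutes' := fun a => funext fun p => DFunLike.congr_fun (hχ p) a }
  have hD : χP.range ∈ S := by
    refine ⟨⟨fun x => ?_⟩, fun L _ σ σ' h => RingHom.ext fun x => ?_⟩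
    · obtain ⟨c, hc⟩ := x.2
      rw [show x = χP.rangeRestrict c from Subtype.ext hc.symm]
      exact (Algebra.IsIntegral.isIntegral (R := A) c).map _
    · obtain ⟨c, hc⟩ := x.2
      rw [show x = χP.rangeRestrict c from Subtype.ext hc.symm]
      exact DFunLike.congr_fun (hu L (σ.comp χP.rangeRestrict.toRingHom) (σ'.comp χP.rangeRestrict.toRingHom)
        (RingHom.ext fun a => by simpa using DFunLike.congr_fun h a)) c
  let χW : C →ₐ[A] W := χP.codRestrict W fun c => le_sSup hD ⟨c, rfl⟩
  haveI : _root_.IsReduced W := isReduced_of_injective W.val Subtype.val_injective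
  exact ⟨χW.toRingHom, RingHom.ext fun a => χW.commutes a,
    fun χ' hχ' => ringHom_ext_of_uq hu (hχ'.trans (RingHom.ext fun a => χW.commutes a).symm)⟩

end Groth.Agent.H18Subint
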