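import Groth.Agent.H18Subint.Roots
import Groth.Agent.H18Subint.Rings
import Mathlib.RingTheory.Localization.Away.Basic
import Mathlib.AlgebraicGeometry.AffineScheme

/-!
# Seminormality and absolute weak normality are local
-/

set_option autoImplicit false

universe u

namespace Groth.Agent.H18Subint

variable {A B : Type u} [CommRing A] [CommRing B]

theorem sn_of_ringEquiv (e : A ≃+* B) (h : HTop.IsSeminormalRing A) : HTop.IsSeminormalRing B :=
  fun x y hxy => by
  obtain ⟨a, ⟨h1, h2⟩, hu⟩ := h (e.symm x) (e.symm y) (by rw [← map_pow, hxy, map_pow])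
  exact ⟨e a, ⟨by rw [← map_pow, ← h1, e.apply_symm_apply], by rw [← map_pow, ← h2, e.apply_symm_apply]⟩,
    fun b hb => by rw [← hu (e.symm b) ⟨by rw [hb.1, map_pow], by rw [hb.2, map_pow]⟩, e.apply_symm_apply]⟩

theorem awn_of_ringEquiv (e : A ≃+* B) (h : HTop.IsAWNRing A) : HTop.IsAWNRing B :=
  ⟨sn_of_ringEquiv e h.1, fun p hp x y hxy => by
    obtain ⟨a, ⟨h1, h2⟩, hu⟩ := h.2 p hp (e.symm x) (e.symm y) (by
      rw [← map_natCast e.symm p, ← map_pow, ← map_mul, hxy, map_pow])
    exact ⟨e a, ⟨by rw [← map_pow, ← h1, e.apply_symm_apply],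
      by rw [← map_natCast e p, ← map_mul, ← h2, e.apply_symm_apply]⟩,
      fun b hb => by
        rw [← hu (e.symm b) ⟨by rw [hb.1, map_pow], by rw [hb.2, map_mul, map_natCast]⟩, e.apply_symm_apply]⟩⟩

variable [Algebra A B] (M : Submonoid A) [IsLocalization M B]

include M in
theorem sn_localization (h : HTop.IsSeminormalRing A) : HTop.IsSeminormalRing B := by
  intro x y hxy
  haveI := isReduced_of_sn h
  haveI : _root_.IsReduced B := isReduced_localizationPreserves M B ‹_›
  classical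
  obtain ⟨s, hs⟩ := IsLocalization.exist_integer_multiples_of_finset M ({x, y} : Finset B)
  obtain ⟨x₁, hx₁⟩ := hs x (by simp)
  obtain ⟨y₁, hy₁⟩ := hs y (by simp)
  rw [Algebra.smul_def] at hx₁ hy₁
  obtain ⟨u, hu⟩ := (IsLocalization.eq_iff_exists M B).mp (show algebraMap A B (((s : A) * x₁) ^ 3) =
      algebraMap A B (((s : A) ^ 2 * y₁) ^ 2) by
    simp only [map_mul, map_pow, hx₁, hy₁, mul_pow, hxy]
    ring)
  obtain ⟨a, ⟨h1, h2⟩, -⟩ := h ((u : A) ^ 2 * ((s : A) * x₁)) ((u : A) ^ 3 * ((s : A) ^ 2 * y₁)) (by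
    linear_combination (u : A) ^ 5 * hu)
  obtain ⟨v, hv⟩ := IsLocalization.map_units B (u * s)
  have e1 : x = ((v⁻¹ : Bˣ) * algebraMap A B a) ^ 2 := by
    rw [mul_pow, ← map_pow, ← h1]
    refine (show _ = ((v⁻¹ : Bˣ) : B) ^ 2 * ((v : B) ^ 2 * _) by rw [← mul_assoc, ← mul_pow, Units.inv_mul, one_pow, one_mul]).trans
      (congrArg _ ?_)
    simp only [hv, map_mul, map_pow, Submonoid.coe_mul, hx₁]
    ring
  have e2 : y = ((v⁻¹ : Bˣ) * algebraMap A B a) ^ 3 := by
    rw [mul_pow, ← map_pow, ← h2]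
    refine (show _ = ((v⁻¹ : Bˣ) : B) ^ 3 * ((v : B) ^ 3 * _) by rw [← mul_assoc, ← mul_pow, Units.inv_mul, one_pow, one_mul]).trans
      (congrArg _ ?_)
    simp only [hv, map_mul, map_pow, Submonoid.coe_mul, hy₁]
    ring
  exact ⟨_, ⟨e1, e2⟩, fun b hb => eq_of_sq_cube (hb.1.symm.trans e1) (hb.2.symm.trans e2)⟩

include M in
theorem awn_localization (h : HTop.IsAWNRing A) : HTop.IsAWNRing B := by
  refine ⟨sn_localization M h.1, fun p hp x y hxy => ?_⟩
  haveI := isReduced_of_sn h.1
  haveI : _root_.IsReduced B := isReduced_localizationPreserves M B ‹_›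
  obtain ⟨k, hk⟩ : ∃ k, p = k + 1 := ⟨p - 1, by have := hp.pos; omega⟩
  classical
  obtain ⟨s, hs⟩ := IsLocalization.exist_integer_multiples_of_finset M ({x, y} : Finset B)
  obtain ⟨x₁, hx₁⟩ := hs x (by simp)
  obtain ⟨y₁, hy₁⟩ := hs y (by simp)
  rw [Algebra.smul_def] at hx₁ hy₁
  obtain ⟨u, hu⟩ := (IsLocalization.eq_iff_exists M B).mp (show algebraMap A B ((p : A) ^ p * ((s : A) ^ k * x₁)) =
      algebraMap A B (y₁ ^ p) by
    simp only [map_mul, map_pow, map_natCast, hx₁, hy₁, mul_pow, ← hxy]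
    rw [show algebraMap A B s ^ p = algebraMap A B s ^ k * algebraMap A B s by rw [hk, pow_succ]]
    ring)
  obtain ⟨a, ⟨h1, h2⟩, -⟩ := h.2 p hp ((u : A) ^ p * ((s : A) ^ k * x₁)) ((u : A) * y₁) (by
    rw [mul_pow, show (u : A) ^ p = (u : A) ^ k * u by rw [hk, pow_succ]]
    linear_combination (u : A) ^ k * hu)
  obtain ⟨v, hv⟩ := IsLocalization.map_units B (u * s)
  have e1 : x = ((v⁻¹ : Bˣ) * algebraMap A B a) ^ p := by
    rw [mul_pow, ← map_pow, ← h1]
    refine (show _ = ((v⁻¹ : Bˣ) : B) ^ p * ((v : B) ^ p * _) by rw [← mul_assoc, ← mul_pow, Units.inv_mul, one_pow, one_mul]).trans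
      (congrArg _ ?_)
    simp only [hv, map_mul, map_pow, Submonoid.coe_mul, hx₁, mul_pow]
    rw [show algebraMap A B s ^ p = algebraMap A B s ^ k * algebraMap A B s by rw [hk, pow_succ]]
    ring
  have e2 : y = (p : B) * ((v⁻¹ : Bˣ) * algebraMap A B a) := by
    rw [mul_left_comm, ← map_natCast (algebraMap A B), ← map_mul, ← h2]
    refine v.eq_inv_mul_iff_mul_eq.mpr ?_
    simp only [hv, map_mul, Submonoid.coe_mul, hy₁]
    ring
  exact ⟨_, ⟨e1, e2⟩, fun b hb => eq_of_pow_mul hp (hb.1.symm.trans e1) (hb.2.symm.trans e2)⟩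

omit [Algebra A B] in
theorem isReduced_of_span (s : Finset A) (hs : Ideal.span (s : Set A) = ⊤)
    (h : ∀ f ∈ s, _root_.IsReduced (Localization.Away f)) : _root_.IsReduced A := by
  refine ⟨fun x hx => ?_⟩
  have : x ∈ (⊥ : Submodule A A) := Submodule.mem_of_span_eq_top_of_smul_pow_mem ⊥ (s : Set A) hs x fun r => by
    haveI := h r r.2
    have h0 : algebraMap A (Localization.Away (r : A)) x = 0 := (hx.map _).eq_zero
    obtain ⟨⟨_, n, rfl⟩, hm⟩ := (IsLocalization.map_eq_zero_iff (Submonoid.powers (r : A)) _ x).mp h0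
    exact ⟨n, by rw [Submodule.mem_bot, smul_eq_mul]; exact hm⟩
  exact (Submodule.mem_bot A).mp this

omit [Algebra A B] in
/-- A root demanded by seminormality exists once it exists locally. -/
theorem exists_root_of_span [_root_.IsReduced A] {C : Type u} [CommRing C] [_root_.IsReduced C] [Algebra A C]
    (s : Finset A) (hs : Ideal.span (s : Set A) = ⊤) (t : C)
    (hloc : ∀ f ∈ s, ∃ a : Localization.Away f, ∀ (L : Type u) [CommRing L] [_root_.IsReduced L]
      (r : Localization.Away f →+* L) (r' : C →+* L),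
      r.comp (algebraMap A (Localization.Away f)) = r'.comp (algebraMap A C) → r a = r' t) :
    ∃ a, algebraMap A C a = t := by
  refine Submodule.mem_of_span_eq_top_of_smul_pow_mem (LinearMap.range (Algebra.linearMap A C))
    (s : Set A) hs t fun f => ?_
  obtain ⟨a, ha⟩ := hloc f f.2
  let L := Localization.Away (algebraMap A C (f : A))
  haveI : _root_.IsReduced L := isReduced_localizationPreserves (Submonoid.powers (algebraMap A C (f : A))) L ‹_›
  let r : Localization.Away (f : A) →+* L := IsLocalization.Away.lift (f : A)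
    (g := (algebraMap C L).comp (algebraMap A C)) (IsLocalization.Away.algebraMap_isUnit (algebraMap A C (f : A)))
  have hr : r.comp (algebraMap A _) = (algebraMap C L).comp (algebraMap A C) :=
    IsLocalization.Away.lift_comp _ _
  have h := ha L r (algebraMap C L) hr
  obtain ⟨⟨a₀, _, n, rfl⟩, hn⟩ := IsLocalization.surj (Submonoid.powers (f : A)) a
  have h' := congrArg r hn
  rw [map_mul, h, ← RingHom.comp_apply r, ← RingHom.comp_apply r, hr, RingHom.comp_apply, RingHom.comp_apply,
    ← map_mul] at h'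
  obtain ⟨⟨_, m, rfl⟩, hm⟩ := (IsLocalization.eq_iff_exists (Submonoid.powers (algebraMap A C (f : A))) L).mp h'
  refine ⟨m + n, (f : A) ^ m * a₀, ?_⟩
  simp only at hm
  rw [Algebra.linearMap_apply, map_mul, map_pow, ← hm, Algebra.smul_def, map_pow, pow_add]
  simp only [map_mul, map_pow]
  ring

omit [Algebra A B] in
theorem sn_of_span (s : Finset A) (hs : Ideal.span (s : Set A) = ⊤)
    (h : ∀ f ∈ s, HTop.IsSeminormalRing (Localization.Away f)) : HTop.IsSeminormalRing A := by
  haveI := isReduced_of_span s hs fun f hf => isReduced_of_sn (h f hf)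
  intro x y hxy
  obtain ⟨C, _, _, t, -, -, h3, h4, h5⟩ := exists_sn_ext x y hxy
  let q := Ideal.Quotient.mk (nilradical C)
  have hinj := injective_of_isReduced (lf_quotient_nilradical h3)
  obtain ⟨a, ha⟩ := exists_root_of_span (C := C ⧸ nilradical C) s hs (q t) fun f hf => by
    obtain ⟨a, ⟨e1, e2⟩, -⟩ := h f hf (algebraMap A _ x) (algebraMap A _ y) (by rw [← map_pow, hxy, map_pow])
    refine ⟨a, fun L _ _ r r' hrr => eq_of_sq_cube ?_ ?_⟩
    · rw [← map_pow, ← e1, ← map_pow, ← map_pow, h4]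
      exact DFunLike.congr_fun hrr x
    · rw [← map_pow, ← e2, ← map_pow, ← map_pow, h5]
      exact DFunLike.congr_fun hrr y
  have e1 : x = a ^ 2 := hinj (by rw [map_pow, ha, ← map_pow, h4]; rfl)
  have e2 : y = a ^ 3 := hinj (by rw [map_pow, ha, ← map_pow, h5]; rfl)
  exact ⟨a, ⟨e1, e2⟩, fun b hb => eq_of_sq_cube (hb.1.symm.trans e1) (hb.2.symm.trans e2)⟩

omit [Algebra A B] in
theorem awn_of_span (s : Finset A) (hs : Ideal.span (s : Set A) = ⊤)
    (h : ∀ f ∈ s, HTop.IsAWNRing (Localization.Away f)) : HTop.IsAWNRing A := by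
  haveI := isReduced_of_span s hs fun f hf => isReduced_of_sn (h f hf).1
  refine ⟨sn_of_span s hs fun f hf => (h f hf).1, fun p hp x y hxy => ?_⟩
  obtain ⟨C, _, _, t, -, -, h3, h4, h5⟩ := exists_pow_ext hp x y hxy
  let q := Ideal.Quotient.mk (nilradical C)
  have hinj := injective_of_isReduced (lf_quotient_nilradical h3)
  obtain ⟨a, ha⟩ := exists_root_of_span (C := C ⧸ nilradical C) s hs (q t) fun f hf => by
    obtain ⟨a, ⟨e1, e2⟩, -⟩ := (h f hf).2 p hp (algebraMap A _ x) (algebraMap A _ y) (by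
      rw [← map_natCast (algebraMap A (Localization.Away f)) p, ← map_pow, ← map_mul, hxy, map_pow])
    refine ⟨a, fun L _ _ r r' hrr => eq_of_pow_mul hp ?_ ?_⟩
    · rw [← map_pow, ← e1, ← map_pow, ← map_pow, h4]
      exact DFunLike.congr_fun hrr x
    · rw [← map_natCast r p, ← map_mul, ← e2, map_natCast r p, ← map_natCast r' p, ← map_mul,
        ← map_natCast q p, ← map_mul, h5]
      exact DFunLike.congr_fun hrr y
  have e1 : x = a ^ p := hinj (by rw [map_pow, ha, ← map_pow, h4]; rfl)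
  have e2 : y = (p : A) * a := hinj (by
    rw [map_mul, map_natCast, ha, ← map_natCast q p, ← map_mul, h5]; rfl)
  exact ⟨a, ⟨e1, e2⟩, fun b hb => eq_of_pow_mul hp (hb.1.symm.trans e1) (hb.2.symm.trans e2)⟩

set_option backward.isDefEq.respectTransparency false in
set_option maxHeartbeats 1600000 in
open AlgebraicGeometry in
/-- Affine opens of a scheme covered by seminormal (or AWN) affines have this property. -/
theorem forall_affineOpens_of_local (P : ∀ (R : Type u) [CommRing R], Prop)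
    (hiso : ∀ {R R' : Type u} [CommRing R] [CommRing R'], (R ≃+* R') → P R → P R')
    (hloc : ∀ (R : Type u) [CommRing R] (f : R), P R → P (Localization.Away f))
    (hspan : ∀ (R : Type u) [CommRing R] (s : Finset R), Ideal.span (s : Set R) = ⊤ →
      (∀ f ∈ s, P (Localization.Away f)) → P R)
    (X : Scheme.{u}) (h : ∀ x : X, ∃ U : X.affineOpens, x ∈ (U : X.Opens) ∧ P Γ(X, U))
    (V : X.affineOpens) : P Γ(X, V) := by
  choose U hU hP using h
  have e : ∀ (W : X.affineOpens) (f : Γ(X, W)), Localization.Away f ≃+* Γ(X, X.basicOpen f) :=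
    fun W f => haveI := W.2.isLocalization_basicOpen f
      (IsLocalization.algEquiv (Submonoid.powers f) (Localization.Away f) Γ(X, X.basicOpen f)).toRingEquiv
  exact of_affine_open_cover (P := fun W => P Γ(X, W)) U
    (top_le_iff.mp fun x _ => TopologicalSpace.Opens.mem_iSup.mpr ⟨x, hU x⟩) V
    (fun W f hW => hiso (e W f) (hloc _ f hW))
    (fun W s hs hall => hspan _ s hs fun f hf => hiso (e W f).symm (hall ⟨f, hf⟩)) hP

end Groth.Agent.H18Subint
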