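import Groth.Agent.H18Subint.Roots
import Mathlib.RingTheory.Finiteness.Subalgebra
import Mathlib.RingTheory.IntegralClosure.IsIntegralClosure.Basic

/-!
# Universal homeomorphisms onto seminormal and absolutely weakly normal rings
-/

set_option autoImplicit false

universe u

open AlgebraicGeometry

namespace Groth.Agent.H18Subint

open H17.UnivHomeoAlg

variable {A B : Type u} [CommRing A] [CommRing B] [Algebra A B]

/-- The conductor of `A` in `B`. -/
def conductor (A B : Type u) [CommRing A] [CommRing B] [Algebra A B] : Ideal B where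
  carrier := {z | ∀ b : B, z * b ∈ (algebraMap A B).range}
  add_mem' hz hw b := by rw [add_mul]; exact add_mem (hz b) (hw b)
  zero_mem' b := by rw [zero_mul]; exact zero_mem _
  smul_mem' c z hz b := by
    rw [smul_eq_mul, mul_assoc, mul_left_comm]
    exact hz (c * b)

theorem mem_range_of_mem_conductor {z : B} (h : z ∈ conductor A B) : z ∈ (algebraMap A B).range := by
  simpa using h 1

theorem exists_notMem_mul_mem {R : Type u} [CommRing R] {c q : Ideal R} (hc : c.IsRadical)
    (hq : q ∈ c.minimalPrimes) {z : R} (hz : z ∈ q) : ∃ t ∉ q, t * z ∈ c := by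
  haveI := hq.1.1
  have : q.map (algebraMap R (Localization.AtPrime q)) ≤
      (c.map (algebraMap R (Localization.AtPrime q))).radical := by
    rw [Ideal.radical_eq_sInf, le_sInf_iff]
    rintro Q ⟨hQ', hQ⟩
    obtain ⟨h₁, h₂⟩ := ((IsLocalization.AtPrime.orderIsoOfPrime _ q) ⟨Q, hQ⟩).2
    rw [Ideal.map_le_iff_le_comap] at hQ' ⊢
    exact hq.2 ⟨h₁, hQ'⟩ h₂
  obtain ⟨n, hn⟩ := this (Ideal.mem_map_of_mem _ hz)
  rw [IsLocalization.mem_map_algebraMap_iff (M := q.primeCompl)] at hn
  obtain ⟨⟨a, b⟩, hn⟩ := hn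
  rw [← map_pow, ← map_mul, IsLocalization.eq_iff_exists q.primeCompl] at hn
  obtain ⟨t, ht⟩ := hn
  refine ⟨t * b, (t * b).2, hc ⟨n + 1, ?_⟩⟩
  simp only at ht
  rw [show ((t : R) * b * z) ^ (n + 1) = ((t : R) ^ n * (b : R) ^ n * z) * (t * (z ^ n * b)) by ring, ht]
  exact c.mul_mem_left _ (c.mul_mem_left _ a.2)

theorem mem_range_of_pow (hsn : HTop.IsSeminormalRing A) [_root_.IsReduced B]
    (hinj : Function.Injective (algebraMap A B)) {x : B} {N : ℕ}
    (h : ∀ n, N ≤ n → x ^ n ∈ (algebraMap A B).range) : x ∈ (algebraMap A B).range := by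
  induction N generalizing x with
  | zero => simpa using h 1 (Nat.zero_le 1)
  | succ N ih =>
    refine ih fun n hn => ?_
    rcases Nat.lt_or_ge N n with hlt | hge
    · exact h n hlt
    obtain rfl : n = N := le_antisymm hge hn
    rcases Nat.eq_zero_or_pos n with rfl | hpos
    · rw [pow_zero]; exact one_mem _
    obtain ⟨a₂, h₂⟩ := h (n * 2) (by omega)
    obtain ⟨a₃, h₃⟩ := h (n * 3) (by omega)
    obtain ⟨a, ⟨e₂, e₃⟩, -⟩ := hsn a₂ a₃ (hinj (by rw [map_pow, map_pow, h₂, h₃]; ring))
    exact ⟨a, eq_of_sq_cube (by rw [← map_pow, ← e₂, h₂, pow_mul])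
      (by rw [← map_pow, ← e₃, h₃, pow_mul])⟩

theorem conductor_isRadical (hsn : HTop.IsSeminormalRing A) [_root_.IsReduced B]
    (hinj : Function.Injective (algebraMap A B)) : (conductor A B).IsRadical := by
  rintro x ⟨n, hn⟩ b
  refine mem_range_of_pow hsn hinj (N := n) fun m hm => ?_
  obtain ⟨k, rfl⟩ := Nat.exists_eq_add_of_le hm
  rw [mul_pow, pow_add, mul_assoc]
  exact mem_range_of_mem_conductor (Ideal.mul_mem_right _ _ hn)

/-- At a minimal prime over the conductor, the residue field of `B` must be bigger. -/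
theorem bijective_of_generic_step (hsn : HTop.IsSeminormalRing A) [_root_.IsReduced B] [Module.Finite A B]
    (hinj : Function.Injective (algebraMap A B)) (hu : Uq A B)
    (key : ∀ p : Ideal A, p.IsPrime → ∀ q : Ideal B, q.IsPrime → q.comap (algebraMap A B) = p →
      (∀ z ∈ q, ∃ t ∉ p, algebraMap A B t * z ∈ conductor A B) →
        ∀ b : B, ∃ s ∉ p, ∃ a, algebraMap A B s * b - algebraMap A B a ∈ q) :
    Function.Surjective (algebraMap A B) := by
  by_contra hne
  let c := conductor A B
  have hc : c.comap (algebraMap A B) ≠ ⊤ := fun h => hne fun b => by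
    have h1 : (1 : A) ∈ c.comap (algebraMap A B) := h ▸ trivial
    have h2 := (Ideal.mem_comap.mp h1) b
    rw [map_one, one_mul] at h2
    exact h2
  obtain ⟨p, hp⟩ := Ideal.nonempty_minimalPrimes hc
  have hpp : p.IsPrime := hp.1.1
  obtain ⟨q, hcq, hq, hqp⟩ := Ideal.exists_ideal_over_prime_of_isIntegral (R := A) (S := B) p c hp.1.2
  have huniq : ∀ Q : Ideal B, Q.IsPrime → Q.comap (algebraMap A B) = p → Q = q := fun Q hQ hQp => by
    haveI := universallyInjective_of_uq hu
    exact congrArg PrimeSpectrum.asIdeal (Scheme.Hom.injective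
      (Spec.map (CommRingCat.ofHom (algebraMap A B))) (a₁ := ⟨Q, hQ⟩) (a₂ := ⟨q, hq⟩)
      (PrimeSpectrum.ext (hQp.trans hqp.symm)))
  have hz : ∀ z ∈ q, ∃ t ∉ p, algebraMap A B t * z ∈ c := by
    intro z hzq
    by_contra! hno
    let J : Ideal B := c.colon {z}
    have hJ : J.comap (algebraMap A B) ≤ p := fun t ht => by
      by_contra htp
      exact hno t htp (Submodule.mem_colon_singleton.mp ht)
    obtain ⟨Q, hJQ, hQ, hQp⟩ := Ideal.exists_ideal_over_prime_of_isIntegral (R := A) (S := B) p J hJ
    have hQq := huniq Q hQ hQp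
    -- `q` is minimal over `c`
    have hmin : q ∈ c.minimalPrimes := by
      refine ⟨⟨hq, hcq⟩, fun Q' ⟨hQ', hcQ'⟩ hle => ?_⟩
      haveI := hQ'
      refine (huniq Q' hQ' ?_).ge
      exact le_antisymm ((Ideal.comap_mono hle).trans hqp.le)
        (hp.2 ⟨Ideal.IsPrime.comap _, Ideal.comap_mono hcQ'⟩ ((Ideal.comap_mono hle).trans hqp.le))
    obtain ⟨t, ht, htz⟩ : ∃ t ∉ q, t * z ∈ c := by
      exact exists_notMem_mul_mem (conductor_isRadical hsn hinj) hmin hzq
    exact ht (hQq ▸ hJQ (Submodule.mem_colon_singleton.mpr htz))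
  have hall : ∀ b : B, ∃ s ∉ p, algebraMap A B s * b ∈ (algebraMap A B).range := by
    intro b
    obtain ⟨s, hs, a, hsa⟩ := key p hpp q hq hqp hz b
    obtain ⟨t, ht, hta⟩ := hz _ hsa
    refine ⟨t * s, fun h => (hpp.mem_or_mem h).elim ht hs, ?_⟩
    rw [show algebraMap A B (t * s) * b = algebraMap A B t * (algebraMap A B s * b - algebraMap A B a) +
      algebraMap A B (t * a) by rw [map_mul, map_mul]; ring]
    exact add_mem (mem_range_of_mem_conductor hta) ⟨_, rfl⟩
  obtain ⟨G, hG⟩ := (Module.Finite.fg_top : (⊤ : Submodule A B).FG)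
  choose s hs hsr using hall
  have hmem : algebraMap A B (∏ g ∈ G, s g) ∈ c := by
    intro b
    have hb : b ∈ Submodule.span A (G : Set B) := hG ▸ trivial
    induction hb using Submodule.span_induction with
    | mem g hg =>
      classical
      rw [← Finset.prod_erase_mul G s hg, map_mul, mul_assoc]
      exact mul_mem ⟨_, rfl⟩ (hsr g)
    | zero => rw [mul_zero]; exact zero_mem _
    | add x y _ _ hx hy => rw [mul_add]; exact add_mem hx hy
    | smul r x _ hx =>
      rw [Algebra.smul_def, mul_left_comm]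
      exact mul_mem ⟨_, rfl⟩ hx
  obtain ⟨g, -, hg⟩ := hpp.prod_mem_iff.mp (hp.1.2 hmem)
  exact hs g hg

theorem exists_of_eq_div (p : Ideal A) (q : Ideal B) [hq : q.IsPrime]
    (hqp : q.comap (algebraMap A B) = p) {b : B} {a s : A}
    (h : algebraMap B q.ResidueField b =
      algebraMap B q.ResidueField (algebraMap A B a) / algebraMap B q.ResidueField (algebraMap A B s)) :
    ∃ s ∉ p, ∃ a, algebraMap A B s * b - algebraMap A B a ∈ q := by
  have hker : ∀ {x : B}, algebraMap B q.ResidueField x = 0 ↔ x ∈ q := Ideal.algebraMap_residueField_eq_zero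
  by_cases hs : s ∈ p
  · refine ⟨1, fun h1 => ?_, 0, ?_⟩
    · exact hq.one_notMem (map_one (algebraMap A B) ▸ hqp.ge h1)
    · rw [hker.mpr (hqp.ge hs), div_zero] at h
      rw [map_one, one_mul, map_zero, sub_zero]
      exact hker.mp h
  · refine ⟨s, hs, a, hker.mp ?_⟩
    have h0 : algebraMap B q.ResidueField (algebraMap A B s) ≠ 0 := fun h0 => hs (hqp.le (hker.mp h0))
    rw [map_sub, map_mul, h, mul_div_cancel₀ _ h0, sub_self]

theorem key_sn (hr : Rg A B) (p : Ideal A) (q : Ideal B) [q.IsPrime]
    (hqp : q.comap (algebraMap A B) = p) (b : B) :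
    ∃ s ∉ p, ∃ a, algebraMap A B s * b - algebraMap A B a ∈ q := by
  let χ := algebraMap B q.ResidueField
  obtain ⟨a, s, h⟩ := (mem_closure_range_iff _ _).mp (hr q.ResidueField χ
    (Subfield.closure (Set.range (χ.comp (algebraMap A B)))) (fun a => Subfield.subset_closure ⟨a, rfl⟩) b)
  exact exists_of_eq_div p q hqp h

theorem key_awn (hawn : HTop.IsAWNRing A) [_root_.IsReduced B] [Module.Finite A B]
    (hinj : Function.Injective (algebraMap A B)) (hu : Uq A B) (p : Ideal A) [hpp : p.IsPrime] (q : Ideal B)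
    [q.IsPrime] (hqp : q.comap (algebraMap A B) = p)
    (hz : ∀ z ∈ q, ∃ t ∉ p, algebraMap A B t * z ∈ conductor A B) (b : B) :
    ∃ s ∉ p, ∃ a, algebraMap A B s * b - algebraMap A B a ∈ q := by
  haveI : Algebra.IsIntegral A B := inferInstance
  let χ := algebraMap B q.ResidueField
  obtain ⟨e, n, he, hmem⟩ := exists_pow_mem hu χ b
  obtain ⟨a, s, h⟩ := (mem_closure_range_iff _ _).mp hmem
  rcases he with _ | ⟨hprime⟩
  · rw [one_pow, pow_one] at h
    exact exists_of_eq_div p q hqp h
  · -- descend one power at a time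
    haveI := Fact.mk hprime
    have heq : (e : A) ∈ p := hqp.le (Ideal.mem_comap.mpr ((Ideal.algebraMap_residueField_eq_zero (I := q)).mp
      (by rw [map_natCast, map_natCast]; exact CharP.cast_eq_zero _ _)))
    obtain ⟨t', ht', hte⟩ := hz (algebraMap A B e) (hqp.ge heq)
    have hstep : ∀ b : B, (∃ s ∉ p, ∃ a, algebraMap A B s * b ^ e - algebraMap A B a ∈ q) →
        ∃ s ∉ p, ∃ a, algebraMap A B s * b - algebraMap A B a ∈ q := by
      rintro b ⟨s, hs, a, hsa⟩
      obtain ⟨t, ht, hta⟩ := hz _ hsa
      have hsb : algebraMap A B (t * s) * b ^ e ∈ (algebraMap A B).range := by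
        rw [show algebraMap A B (t * s) * b ^ e = algebraMap A B t * (algebraMap A B s * b ^ e - algebraMap A B a)
          + algebraMap A B (t * a) by rw [map_mul, map_mul]; ring]
        exact add_mem (mem_range_of_mem_conductor hta) ⟨_, rfl⟩
      let b' := algebraMap A B (t' * (t * s)) * b
      obtain ⟨x, hx⟩ : b' ^ e ∈ (algebraMap A B).range := by
        obtain ⟨k, hk⟩ := Nat.exists_eq_add_of_le hprime.pos
        rw [show b' ^ e = algebraMap A B (t' ^ e * (t * s) ^ k) * (algebraMap A B (t * s) * b ^ e) by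
          simp only [b', mul_pow, map_mul, map_pow]
          have hk' : e = k + 1 := by omega
          rw [hk']
          ring]
        exact mul_mem ⟨_, rfl⟩ hsb
      obtain ⟨y, hy⟩ : (e : B) * b' ∈ (algebraMap A B).range := by
        rw [show (e : B) * b' = algebraMap A B t' * algebraMap A B e * (algebraMap A B (t * s) * b) by
          simp only [b', map_mul, map_natCast]; ring]
        exact hte _
      obtain ⟨a', ⟨e₁, e₂⟩, -⟩ := hawn.2 e hprime x y (hinj (by
        rw [map_mul, map_pow, map_natCast, map_pow, hx, hy]; exact (mul_pow _ _ _).symm))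
      refine ⟨t' * (t * s), fun h => ?_, a', ?_⟩
      · exact (hpp.mem_or_mem h).elim ht' fun h => (hpp.mem_or_mem h).elim ht hs
      · rw [show algebraMap A B (t' * (t * s)) * b = algebraMap A B a' from
          eq_of_pow_mul hprime (by rw [← map_pow, ← e₁]; exact hx.symm)
            (by rw [← map_natCast (algebraMap A B) e, ← map_mul (algebraMap A B) (e : A) a', ← e₂]
                exact (map_natCast (algebraMap A B) e).symm ▸ hy.symm), sub_self]
        exact zero_mem _
    have hdesc : ∀ (m : ℕ) (b : B), (∃ s ∉ p, ∃ a, algebraMap A B s * b ^ e ^ m - algebraMap A B a ∈ q) →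
        ∃ s ∉ p, ∃ a, algebraMap A B s * b - algebraMap A B a ∈ q := by
      intro m
      induction m with
      | zero => intro b hb; simpa using hb
      | succ m ih =>
        intro b hb
        refine ih b (hstep _ ?_)
        rwa [← pow_mul, ← pow_succ]
    refine hdesc n b (exists_of_eq_div p q hqp (b := b ^ e ^ n) (a := a) (s := s) ?_)
    rw [map_pow]
    exact h

/-- A seminormal ring has no proper reduced subintegral extensions. -/
theorem bijective_of_sn (hsn : HTop.IsSeminormalRing A) [_root_.IsReduced B] [Algebra.IsIntegral A B]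
    (hinj : Function.Injective (algebraMap A B)) (hu : Uq A B) (hr : Rg A B) :
    Function.Bijective (algebraMap A B) := by
  refine ⟨hinj, fun b => ?_⟩
  let B' := Algebra.adjoin A ({b} : Set B)
  haveI : Module.Finite A B' := Module.Finite.iff_fg.mpr
    ((Algebra.IsIntegral.isIntegral (R := A) b).fg_adjoin_singleton)
  haveI : _root_.IsReduced B' := isReduced_of_injective B'.val Subtype.val_injective
  obtain ⟨a, ha⟩ := bijective_of_generic_step (B := B') hsn
    (fun x y h => hinj (congrArg Subtype.val h)) (uq_subalgebra B' hu)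
    (fun p _ q hq hqp _ b => haveI := hq; key_sn (rg_subalgebra B' hr) p q hqp b) ⟨b, Algebra.self_mem_adjoin_singleton A b⟩
  exact ⟨a, congrArg Subtype.val ha⟩

/-- An absolutely weakly normal ring has no proper reduced purely inseparable integral extensions. -/
theorem bijective_of_awn (hawn : HTop.IsAWNRing A) [_root_.IsReduced B] [Algebra.IsIntegral A B]
    (hinj : Function.Injective (algebraMap A B)) (hu : Uq A B) :
    Function.Bijective (algebraMap A B) := by
  refine ⟨hinj, fun b => ?_⟩
  let B' := Algebra.adjoin A ({b} : Set B)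
  haveI : Module.Finite A B' := Module.Finite.iff_fg.mpr
    ((Algebra.IsIntegral.isIntegral (R := A) b).fg_adjoin_singleton)
  haveI : _root_.IsReduced B' := isReduced_of_injective B'.val Subtype.val_injective
  have hinj' : Function.Injective (algebraMap A B') := fun x y h => hinj (congrArg Subtype.val h)
  obtain ⟨a, ha⟩ := bijective_of_generic_step (B := B') hawn.1 hinj' (uq_subalgebra B' hu)
    (fun p hp q hq hqp hz b => haveI := hp; haveI := hq; key_awn hawn hinj' (uq_subalgebra B' hu) p q hqp hz b)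
    ⟨b, Algebra.self_mem_adjoin_singleton A b⟩
  exact ⟨a, congrArg Subtype.val ha⟩

end Groth.Agent.H18Subint
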