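import Groth.Agent.H17.UnivHomeoAlg
import Groth.Prelude.Def_HTop2
import Mathlib.RingTheory.AdjoinRoot
import Mathlib.FieldTheory.Perfect
import Mathlib.Algebra.CharP.Invertible

/-!
# Adjoining the elements demanded by seminormality and weak normality
-/

set_option autoImplicit false

universe u

open Polynomial

namespace Groth.Agent.H18Subint

open H17.UnivHomeoAlg

variable {A : Type u} [CommRing A]

/-- In a reduced ring elements with the same values in all fields are equal. -/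
theorem eq_of_forall_field [_root_.IsReduced A] {a b : A}
    (h : ∀ (L : Type u) [Field L] (r : A →+* L), r a = r b) : a = b := by
  refine sub_eq_zero.mp (IsNilpotent.eq_zero (nilpotent_iff_mem_prime.mpr fun P hP => ?_))
  rw [← Ideal.algebraMap_residueField_eq_zero, map_sub, sub_eq_zero]
  exact h _ _

theorem eq_of_sq_cube_field {L : Type u} [Field L] {a b : L} (h2 : a ^ 2 = b ^ 2) (h3 : a ^ 3 = b ^ 3) :
    a = b := by
  rcases eq_or_ne b 0 with rfl | hb
  · simpa using h2
  · refine mul_right_cancel₀ (pow_ne_zero 2 hb) ?_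
    calc a * b ^ 2 = a * a ^ 2 := by rw [h2]
      _ = a ^ 3 := by ring
      _ = b ^ 3 := h3
      _ = b * b ^ 2 := by ring

theorem eq_of_pow_mul_field {L : Type u} [Field L] {p : ℕ} [Fact p.Prime] {a b : L}
    (hp : a ^ p = b ^ p) (hm : (p : L) * a = p * b) : a = b := by
  by_cases h : (p : L) = 0
  · haveI : CharP L p := (CharP.charP_iff_prime_eq_zero Fact.out).mpr h
    exact frobenius_inj L p hp
  · exact mul_left_cancel₀ h hm

/-- In a reduced ring square and cube determine an element. -/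
theorem eq_of_sq_cube [_root_.IsReduced A] {a b : A} (h2 : a ^ 2 = b ^ 2) (h3 : a ^ 3 = b ^ 3) : a = b :=
  eq_of_forall_field fun _ _ r => eq_of_sq_cube_field (by rw [← map_pow, h2, map_pow])
    (by rw [← map_pow, h3, map_pow])

/-- In a reduced ring `p`-th power and `p`-multiple determine an element. -/
theorem eq_of_pow_mul [_root_.IsReduced A] {p : ℕ} (hp' : p.Prime) {a b : A} (hp : a ^ p = b ^ p)
    (hm : (p : A) * a = p * b) : a = b :=
  haveI := Fact.mk hp'
  eq_of_forall_field fun _ _ r => eq_of_pow_mul_field (by rw [← map_pow, hp, map_pow])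
    (by simpa using congrArg r hm)

theorem isReduced_of_sn (h : HTop.IsSeminormalRing A) : _root_.IsReduced A := by
  rw [isReduced_iff_pow_one_lt 2 one_lt_two]
  intro x hx
  obtain ⟨c, -, hc⟩ := h 0 0 (by simp)
  exact (hc x ⟨hx.symm, by rw [pow_succ, hx, zero_mul]⟩).trans (hc 0 ⟨by simp, by simp⟩).symm

section Ext

/-- An integral extension generated by one root of a monic polynomial with prescribed behaviour in
fields is a universal homeomorphism. -/
theorem exists_uh_root (f : A[X]) (hf : f.Monic) (g : A[X])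
    (huniq : ∀ (L : Type u) [Field L] (φ : A →+* L) (a b : L), f.eval₂ φ a = 0 → g.eval₂ φ a = 0 →
      f.eval₂ φ b = 0 → g.eval₂ φ b = 0 → a = b)
    (hex : ∀ (L : Type u) [Field L] [IsAlgClosed L] (φ : A →+* L),
      ∃ a, f.eval₂ φ a = 0 ∧ g.eval₂ φ a = 0) :
    ∃ (C : Type u) (_ : CommRing C) (_ : Algebra A C) (t : C),
      Algebra.IsIntegral A C ∧ Uq A C ∧ Lf A C ∧ aeval t f = 0 ∧ aeval t g = 0 := by
  let I : Ideal A[X] := Ideal.span {f, g}
  let π : A[X] →ₐ[A] A[X] ⧸ I := Ideal.Quotient.mkₐ A I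
  have ht : ∀ q : A[X], aeval (π X) q = π q := fun q => by rw [aeval_algHom_apply, aeval_X_left_apply]
  have hf0 : aeval (π X) f = 0 := (ht f).trans (Ideal.Quotient.eq_zero_iff_mem.mpr (Ideal.subset_span (by simp)))
  have hg0 : aeval (π X) g = 0 := (ht g).trans (Ideal.Quotient.eq_zero_iff_mem.mpr (Ideal.subset_span (by simp)))
  have heval : ∀ (L : Type u) [Field L] (ψ : A[X] ⧸ I →+* L) (q : A[X]),
      q.eval₂ (ψ.comp (algebraMap A _)) (ψ (π X)) = ψ (aeval (π X) q) := fun L _ ψ q =>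
    (hom_eval₂ q _ ψ (π X)).symm
  refine ⟨A[X] ⧸ I, inferInstance, inferInstance, π X, ⟨fun c => ?_⟩, fun L _ ψ ψ' h => ?_,
    fun L _ _ φ => ?_, hf0, hg0⟩
  · obtain ⟨q, rfl⟩ := Ideal.Quotient.mk_surjective c
    have hint : IsIntegral A (π X) := ⟨f, hf, hf0⟩
    have : π q ∈ Algebra.adjoin A {π X} := by
      rw [Algebra.adjoin_singleton_eq_range_aeval]
      exact ⟨q, ht q⟩
    exact Algebra.adjoin_le (S := integralClosure A (A[X] ⧸ I)) (Set.singleton_subset_iff.mpr hint) this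
  · have hX : ψ (π X) = ψ' (π X) := huniq L _ _ _ (by rw [heval, hf0, map_zero])
      (by rw [heval, hg0, map_zero]) (by rw [h, heval, hf0, map_zero]) (by rw [h, heval, hg0, map_zero])
    refine Ideal.Quotient.ringHom_ext (Polynomial.ringHom_ext (fun a => ?_) hX)
    exact DFunLike.congr_fun h a
  · obtain ⟨a, ha, hb⟩ := hex L φ
    refine ⟨Ideal.Quotient.lift I (eval₂RingHom φ a) fun q hq => ?_, RingHom.ext fun x => ?_⟩
    · have hle : I ≤ RingHom.ker (eval₂RingHom φ a) := Ideal.span_le.mpr (by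
        simp [Set.insert_subset_iff, RingHom.mem_ker, ha, hb])
      exact hle hq
    · show eval₂RingHom φ a (algebraMap A A[X] x) = φ x
      simp

theorem exists_sn_ext (x y : A) (h : x ^ 3 = y ^ 2) :
    ∃ (C : Type u) (_ : CommRing C) (_ : Algebra A C) (t : C), Algebra.IsIntegral A C ∧ Uq A C ∧ Lf A C ∧
      t ^ 2 = algebraMap A C x ∧ t ^ 3 = algebraMap A C y := by
  obtain ⟨C, _, _, t, h1, h2, h3, h4, h5⟩ := exists_uh_root (X ^ 2 - Polynomial.C x)
    (monic_X_pow_sub_C x two_ne_zero) (X ^ 3 - Polynomial.C y)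
    (fun L _ φ a b => by
      simp only [eval₂_sub, eval₂_X_pow, eval₂_C, sub_eq_zero]
      exact fun e1 e2 e3 e4 => eq_of_sq_cube_field (e1.trans e3.symm) (e2.trans e4.symm))
    (fun L _ _ φ => by
      simp only [eval₂_sub, eval₂_X_pow, eval₂_C, sub_eq_zero]
      have hφ : φ x ^ 3 = φ y ^ 2 := by rw [← map_pow, ← map_pow, h]
      rcases eq_or_ne (φ x) 0 with hx | hx
      · exact ⟨0, by simp [hx], by
          rw [hx] at hφ
          simpa using ((sq_eq_zero_iff).mp (by simpa using hφ.symm)).symm⟩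
      · refine ⟨φ y / φ x, ?_, ?_⟩
        · rw [div_pow, div_eq_iff (pow_ne_zero _ hx), ← hφ]; ring
        · rw [div_pow, div_eq_iff (pow_ne_zero _ hx), hφ]; ring)
  exact ⟨C, _, _, t, h1, h2, h3, sub_eq_zero.mp (by simpa using h4), sub_eq_zero.mp (by simpa using h5)⟩

theorem exists_pow_ext {p : ℕ} (hp : p.Prime) (x y : A) (h : (p : A) ^ p * x = y ^ p) :
    ∃ (C : Type u) (_ : CommRing C) (_ : Algebra A C) (t : C), Algebra.IsIntegral A C ∧ Uq A C ∧ Lf A C ∧
      t ^ p = algebraMap A C x ∧ (p : C) * t = algebraMap A C y := by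
  haveI := Fact.mk hp
  obtain ⟨C, _, _, t, h1, h2, h3, h4, h5⟩ := exists_uh_root (X ^ p - Polynomial.C x)
    (monic_X_pow_sub_C x hp.ne_zero) ((p : A[X]) * X - Polynomial.C y)
    (fun L _ φ a b => by
      simp only [eval₂_sub, eval₂_X_pow, eval₂_C, eval₂_mul, eval₂_natCast, eval₂_X, sub_eq_zero]
      exact fun e1 e2 e3 e4 => eq_of_pow_mul_field (e1.trans e3.symm) (e2.trans e4.symm))
    (fun L _ _ φ => by
      simp only [eval₂_sub, eval₂_X_pow, eval₂_C, eval₂_mul, eval₂_natCast, eval₂_X, sub_eq_zero]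
      have hφ : (p : L) ^ p * φ x = φ y ^ p := by
        have := congrArg φ h; simpa using this
      by_cases h0 : (p : L) = 0
      · obtain ⟨a, ha⟩ := IsAlgClosed.exists_pow_nat_eq (φ x) hp.pos
        refine ⟨a, ha, ?_⟩
        rw [h0, zero_pow hp.ne_zero, zero_mul] at hφ
        rw [h0, zero_mul, pow_eq_zero_iff hp.ne_zero |>.mp hφ.symm]
      · refine ⟨φ y / p, ?_, mul_div_cancel₀ _ h0⟩
        rw [div_pow, div_eq_iff (pow_ne_zero _ h0), ← hφ, mul_comm])
  exact ⟨C, _, _, t, h1, h2, h3, sub_eq_zero.mp (by simpa using h4), sub_eq_zero.mp (by simpa using h5)⟩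

end Ext

/-- A ring onto which all its universal homeomorphisms retract, and which is reduced, is absolutely
weakly normal. -/
theorem isAWNRing_of_retraction [_root_.IsReduced A]
    (h : ∀ (C : Type u) [CommRing C] [Algebra A C],
      FlatMor.IsUnivHomeo (AlgebraicGeometry.Spec.map (CommRingCat.ofHom (algebraMap A C))) →
        ∃ r : C →+* A, r.comp (algebraMap A C) = RingHom.id A) : HTop.IsAWNRing A := by
  refine ⟨fun x y hxy => ?_, fun p hp x y hxy => ?_⟩
  · obtain ⟨C, _, _, t, h1, h2, h3, h4, h5⟩ := exists_sn_ext x y hxy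
    obtain ⟨r, hr⟩ := h C (isUnivHomeo_iff.mpr ⟨h1, h2, h3⟩)
    have e1 : x = r t ^ 2 := by rw [← map_pow, h4]; exact (DFunLike.congr_fun hr x).symm
    have e2 : y = r t ^ 3 := by rw [← map_pow, h5]; exact (DFunLike.congr_fun hr y).symm
    exact ⟨r t, ⟨e1, e2⟩, fun a ha => eq_of_sq_cube (ha.1.symm.trans e1) (ha.2.symm.trans e2)⟩
  · obtain ⟨C, _, _, t, h1, h2, h3, h4, h5⟩ := exists_pow_ext hp x y hxy
    obtain ⟨r, hr⟩ := h C (isUnivHomeo_iff.mpr ⟨h1, h2, h3⟩)
    have e1 : x = r t ^ p := by rw [← map_pow, h4]; exact (DFunLike.congr_fun hr x).symm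
    have e2 : y = (p : A) * r t := by
      rw [← map_natCast r p, ← map_mul, h5]; exact (DFunLike.congr_fun hr y).symm
    exact ⟨r t, ⟨e1, e2⟩, fun a ha => eq_of_pow_mul hp (ha.1.symm.trans e1) (ha.2.symm.trans e2)⟩

/-- A perfect ring is absolutely weakly normal. -/
theorem isAWNRing_of_perfect (p : ℕ) [Fact p.Prime] [CharP A p] [PerfectRing A p] : HTop.IsAWNRing A := by
  have hp : p.Prime := Fact.out
  haveI : _root_.IsReduced A := (isReduced_iff_pow_one_lt p hp.one_lt).mpr fun x hx =>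
    injective_frobenius A p (by rw [frobenius_def, map_zero, hx])
  refine ⟨fun x y hxy => ?_, fun q hq x y hxy => ?_⟩
  · obtain ⟨i, j, hij⟩ : ∃ i j, 2 * i + 3 * j = p := by
      have := hp.two_le
      rcases Nat.even_or_odd p with ⟨k, hk⟩ | ⟨k, hk⟩
      · exact ⟨k, 0, by omega⟩
      · exact ⟨k - 1, 1, by omega⟩
    obtain ⟨a, ha⟩ := surjective_frobenius A p (x ^ i * y ^ j : A)
    rw [frobenius_def] at ha
    have e1 : x = a ^ 2 := (injective_frobenius A p (by
      simp only [frobenius_def]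
      rw [← pow_mul, mul_comm 2 p, pow_mul, ha]
      calc x ^ p = x ^ (2 * i) * (x ^ 3) ^ j := by rw [← hij]; ring
        _ = (x ^ i * y ^ j) ^ 2 := by rw [hxy]; ring))
    have e2 : y = a ^ 3 := (injective_frobenius A p (by
      simp only [frobenius_def]
      rw [← pow_mul, mul_comm 3 p, pow_mul, ha]
      calc y ^ p = (y ^ 2) ^ i * y ^ (3 * j) := by rw [← hij]; ring
        _ = (x ^ i * y ^ j) ^ 3 := by rw [← hxy]; ring))
    exact ⟨a, ⟨e1, e2⟩, fun b hb => eq_of_sq_cube (hb.1.symm.trans e1) (hb.2.symm.trans e2)⟩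
  · rcases eq_or_ne q p with rfl | hne
    · obtain ⟨a, ha⟩ := surjective_frobenius A q x
      rw [frobenius_def] at ha
      have hy : y = (q : A) * a := by
        rw [CharP.cast_eq_zero, zero_mul]
        rw [CharP.cast_eq_zero, zero_pow hq.ne_zero, zero_mul] at hxy
        exact (IsNilpotent.eq_zero ⟨q, hxy.symm⟩)
      exact ⟨a, ⟨ha.symm, hy⟩, fun b hb => eq_of_pow_mul hq (hb.1.symm.trans ha.symm) (hb.2.symm.trans hy)⟩
    · have hu : IsUnit (q : A) := (CharP.isUnit_natCast_iff hp).mpr fun hd =>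
        hne ((Nat.prime_dvd_prime_iff_eq hp hq).mp hd).symm
      obtain ⟨u, hu⟩ := hu
      have e1 : x = ((u⁻¹ : Aˣ) * y) ^ q := by
        rw [mul_pow, ← hxy, ← mul_assoc, ← hu, ← mul_pow, Units.inv_mul, one_pow, one_mul]
      have e2 : y = (q : A) * ((u⁻¹ : Aˣ) * y) := by rw [← hu, Units.mul_inv_cancel_left]
      exact ⟨_, ⟨e1, e2⟩, fun b hb => eq_of_pow_mul hq (hb.1.symm.trans e1) (hb.2.symm.trans e2)⟩

theorem surjective_frobenius_of_isAWNRing (p : ℕ) [Fact p.Prime] [CharP A p] (h : HTop.IsAWNRing A) :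
    Function.Bijective (frobenius A p) := by
  haveI := isReduced_of_sn h.1
  refine ⟨frobenius_inj A p, fun x => ?_⟩
  obtain ⟨a, ⟨ha, -⟩, -⟩ := h.2 p Fact.out x 0 (by simp [(Fact.out : p.Prime).ne_zero])
  exact ⟨a, ha.symm⟩

end Groth.Agent.H18Subint
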