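import Groth.Agent.H18Subint.Scheme

/-!
# The absolute weak normalization of a scheme
-/

set_option autoImplicit false

universe u

open CategoryTheory Limits AlgebraicGeometry TensorProduct Opposite
open AlgebraicGeometry.Scheme AlgebraicGeometry.Scheme.AffineZariskiSite

namespace Groth.Agent.H18Subint

open H17.UnivHomeoAlg

set_option backward.isDefEq.respectTransparency false

theorem exists_awn (A : CommRingCat.{u}) :
    ∃ (B : CommRingCat.{u}) (φ : A ⟶ B), HTop.IsRingAWN φ.hom := by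
  obtain ⟨W, _, φ, hφ⟩ := exists_isRingAWN A
  exact ⟨CommRingCat.of W, CommRingCat.ofHom φ, hφ⟩

/-- A chosen absolute weak normalization. -/
noncomputable def awnObj (A : CommRingCat.{u}) : CommRingCat.{u} := (exists_awn A).choose

/-- Its structure map. -/
noncomputable def awnι (A : CommRingCat.{u}) : A ⟶ awnObj A := (exists_awn A).choose_spec.choose

theorem isRingAWN_awnι (A : CommRingCat.{u}) : HTop.IsRingAWN (awnι A).hom :=
  (exists_awn A).choose_spec.choose_spec

instance (A : CommRingCat.{u}) : _root_.IsReduced (awnObj A) :=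
  isReduced_of_sn (isAWNRing_of_isRingAWN (isRingAWN_awnι A)).1

theorem awn_hom_ext {A : CommRingCat.{u}} {W : CommRingCat.{u}} [_root_.IsReduced W]
    {χ χ' : awnObj A ⟶ W} (h : awnι A ≫ χ = awnι A ≫ χ') : χ = χ' := by
  letI := (awnι A).hom.toAlgebra
  exact CommRingCat.hom_ext (ringHom_ext_of_uq (B := awnObj A) ((isUnivHomeo_iff' (awnι A).hom).mp
    (isRingAWN_awnι A).1).2.1 (congrArg CommRingCat.Hom.hom h))

theorem exists_awnMap {A A' : CommRingCat.{u}} (f : A ⟶ A') :
    ∃ χ : awnObj A ⟶ awnObj A', awnι A ≫ χ = f ≫ awnι A' := by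
  letI := (awnι A).hom.toAlgebra
  letI := f.hom.toAlgebra
  obtain ⟨hi, hu, hl⟩ := (isUnivHomeo_iff' (awnι A).hom).mp (isRingAWN_awnι A).1
  haveI := hi
  let C := (A' : Type u) ⊗[(A : Type u)] (awnObj A : Type u)
  obtain ⟨χ, hχ, -⟩ := (isRingAWN_awnι A').2 C (algebraMap A' C)
    (isUnivHomeo_iff.mpr ⟨integral_baseChange, uq_baseChange hu, lf_baseChange hl⟩)
  refine ⟨CommRingCat.ofHom (χ.comp (Algebra.TensorProduct.includeRight : (awnObj A : Type u) →ₐ[(A : Type u)] C).toRingHom),
    CommRingCat.hom_ext (RingHom.ext fun a => ?_)⟩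
  show χ (Algebra.TensorProduct.includeRight (algebraMap (A : Type u) (awnObj A : Type u) a)) = _
  rw [AlgHom.commutes, IsScalarTower.algebraMap_apply (A : Type u) (A' : Type u) C]
  exact DFunLike.congr_fun hχ (f.hom a)

/-- Functoriality. -/
noncomputable def awnMap {A A' : CommRingCat.{u}} (f : A ⟶ A') : awnObj A ⟶ awnObj A' :=
  (exists_awnMap f).choose

theorem awnι_map {A A' : CommRingCat.{u}} (f : A ⟶ A') : awnι A ≫ awnMap f = f ≫ awnι A' :=
  (exists_awnMap f).choose_spec

/-- The absolute weak normalization functor. -/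
noncomputable def awnFunctor : CommRingCat.{u} ⥤ CommRingCat.{u} where
  obj := awnObj
  map := awnMap
  map_id A := awn_hom_ext (by rw [awnι_map, Category.id_comp, Category.comp_id])
  map_comp f g := awn_hom_ext (by
    simp only [awnι_map, ← Category.assoc]
    simp only [Category.assoc, awnι_map])

/-- Localization commutes with absolute weak normalization. -/
theorem isLocalization_awnMap {A A' : CommRingCat.{u}} (g : A ⟶ A') (f : A)
    (hf : letI := g.hom.toAlgebra; IsLocalization.Away f A') :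
    letI := (awnMap g).hom.toAlgebra
    IsLocalization.Away ((awnι A).hom f) (awnObj A') := by
  letI := g.hom.toAlgebra
  haveI : IsLocalization.Away f A' := hf
  letI := (awnι A).hom.toAlgebra
  obtain ⟨hi, hu, hl⟩ := (isUnivHomeo_iff' (awnι A).hom).mp (isRingAWN_awnι A).1
  haveI := hi
  let L := Localization.Away ((awnι A).hom f)
  -- the base change of `A → awn A` to `A'`
  let C := (A' : Type u) ⊗[(A : Type u)] (awnObj A : Type u)
  have hawn : HTop.IsAWNRing L := awn_localization (Submonoid.powers ((awnι A).hom f))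
    (isAWNRing_of_isRingAWN (isRingAWN_awnι A))
  haveI := isReduced_of_sn hawn.1
  let j : (A' : Type u) →+* L := IsLocalization.Away.lift f
    (g := (algebraMap (awnObj A) L).comp (awnι A).hom)
    (IsLocalization.Away.algebraMap_isUnit (S := L) ((awnι A).hom f))
  have hj : ∀ a, j (g.hom a) = algebraMap (awnObj A) L ((awnι A).hom a) := fun a =>
    IsLocalization.Away.lift_eq _ _ a
  letI := j.toAlgebra
  haveI hL : Algebra.IsIntegral A' L := by
    refine ⟨fun x => ?_⟩
    obtain ⟨⟨w, _, n, rfl⟩, hx⟩ := IsLocalization.surj (Submonoid.powers ((awnι A).hom f)) x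
    have hw : IsIntegral A' (algebraMap (awnObj A) L w) := by
      obtain ⟨P, hP, hP0⟩ := Algebra.IsIntegral.isIntegral (R := (A : Type u)) w
      refine ⟨P.map g.hom, hP.map _, ?_⟩
      rw [Polynomial.eval₂_map]
      rw [show (algebraMap (A' : Type u) L).comp g.hom = (algebraMap (awnObj A) L).comp (algebraMap (A : Type u) (awnObj A)) from
        RingHom.ext hj, ← Polynomial.hom_eval₂, hP0, map_zero]
    obtain ⟨u, hu⟩ := IsLocalization.map_units (M := Submonoid.powers f) A' ⟨f ^ n, n, rfl⟩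
    have hju : j (u⁻¹ : A'ˣ) * algebraMap (awnObj A) L ((awnι A).hom f ^ n) = 1 := by
      rw [← map_pow, ← hj, show g.hom (f ^ n) = (u : A') from hu.symm, ← map_mul, Units.inv_mul, map_one]
    rw [show x = j (u⁻¹ : A'ˣ) * algebraMap (awnObj A) L w by
      rw [← hx, mul_left_comm, hju, mul_one]]
    exact (isIntegral_algebraMap (R := (A' : Type u)) (x := ((u⁻¹ : A'ˣ) : A'))).mul hw
  have hjh : FlatMor.IsUnivHomeo (Spec.map (CommRingCat.ofHom j)) := by
    refine (isUnivHomeo_iff' j).mpr ⟨hL, fun K _ ψ ψ' h => ?_, fun K _ _ φ => ?_⟩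
    · refine IsLocalization.ringHom_ext (Submonoid.powers ((awnι A).hom f)) (hu K _ _ (RingHom.ext fun a => ?_))
      exact (congrArg ψ (hj a)).symm.trans ((DFunLike.congr_fun h (g.hom a)).trans (congrArg ψ' (hj a)))
    · obtain ⟨ψ, hψ⟩ := hl K (φ.comp g.hom)
      have hunit : IsUnit (ψ ((awnι A).hom f)) := by
        rw [show ψ ((awnι A).hom f) = φ (g.hom f) from DFunLike.congr_fun hψ f]
        exact (IsLocalization.Away.algebraMap_isUnit (S := (A' : Type u)) f).map φ
      refine ⟨IsLocalization.Away.lift ((awnι A).hom f) hunit,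
        IsLocalization.ringHom_ext (Submonoid.powers f) (RingHom.ext fun a => ?_)⟩
      show IsLocalization.Away.lift ((awnι A).hom f) hunit (j (g.hom a)) = φ (g.hom a)
      rw [hj, IsLocalization.Away.lift_eq]
      exact DFunLike.congr_fun hψ a
  obtain ⟨χ, hχ, -⟩ := (isRingAWN_of_isAWNRing j hjh hawn).2 (awnObj A') (awnι A').hom (isRingAWN_awnι A').1
  obtain ⟨χ', hχ', -⟩ := (isRingAWN_awnι A').2 L j hjh
  letI := (awnMap g).hom.toAlgebra
  have hW : ∀ a, algebraMap (awnObj A) (awnObj A') ((awnι A).hom a) = (awnι A').hom (g.hom a) :=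
    fun a => congrArg (fun k => k.hom a) (awnι_map g)
  have hc₁ : χ'.comp (algebraMap (awnObj A) L) = algebraMap (awnObj A) (awnObj A') :=
    ringHom_ext_of_uq hu (RingHom.ext fun a =>
      ((congrArg χ' (hj a).symm).trans (DFunLike.congr_fun hχ' _)).trans (hW a).symm)
  have h₁ : χ.comp χ' = RingHom.id L := by
    letI := j.toAlgebra
    refine ringHom_ext_of_uq ((isUnivHomeo_iff' j).mp hjh).2.1 ?_
    show (χ.comp χ').comp j = (RingHom.id L).comp j
    rw [RingHom.comp_assoc, hχ', hχ, RingHom.id_comp]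
  have h₂ : χ'.comp χ = RingHom.id (awnObj A') := by
    letI := (awnι A').hom.toAlgebra
    refine ringHom_ext_of_uq ((isUnivHomeo_iff' (awnι A').hom).mp (isRingAWN_awnι A').1).2.1 ?_
    show (χ'.comp χ).comp (awnι A').hom = (RingHom.id _).comp (awnι A').hom
    rw [RingHom.comp_assoc, hχ, hχ', RingHom.id_comp]
  let e : L ≃ₐ[(awnObj A : Type u)] (awnObj A' : Type u) :=
    AlgEquiv.ofRingEquiv (f := RingEquiv.ofRingHom χ' χ h₂ h₁) fun x => DFunLike.congr_fun hc₁ x
  exact IsLocalization.isLocalization_of_algEquiv (Submonoid.powers ((awnι A).hom f)) e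

variable (X : Scheme.{u})

/-- The diagram of absolute weak normalizations. -/
noncomputable def awnDiagram : X.AffineZariskiSiteᵒᵖ ⥤ CommRingCat.{u} :=
  ((AffineZariskiSite.toOpensFunctor X).op ⋙ X.presheaf) ⋙ awnFunctor

/-- The structure transformation. -/
noncomputable def awnDiagramι : (AffineZariskiSite.toOpensFunctor X).op ⋙ X.presheaf ⟶ awnDiagram X where
  app _ := awnι _
  naturality _ _ f := (awnι_map _).symm

theorem coequifibered : (awnDiagramι X).Coequifibered :=
  coequifibered_iff_forall_isLocalizationAway.mpr fun U f =>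
    isLocalization_awnMap _ f (U.2.isLocalization_basicOpen f)

/-- The gluing datum. -/
noncomputable def awnGlueData := relativeGluingData (coequifibered X)

instance : ((awnGlueData X).functor ⋙ Scheme.forget).IsLocallyDirected :=
  Cover.RelativeGluingData.instIsLocallyDirectedI₀CompFunctorForgetOfIsThin ..

/-- The absolute weak normalization. -/
noncomputable def awn : Scheme.{u} := (awnGlueData X).glued

/-- Its structure map. -/
noncomputable def awnπ : awn X ⟶ X := (awnGlueData X).toBase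

/-- The charts. -/
noncomputable def awnCover : (awn X).OpenCover := (awnGlueData X).cover

theorem cover_π (U : X.affineOpens) :
    (awnCover X).f U ≫ awnπ X = Spec.map (awnι Γ(X, U)) ≫ U.2.fromSpec :=
  colimit.ι_desc _ _

theorem isAWN_awn : HTop.IsAWN (awn X) :=
  isAWN_of_openCover (awnCover X) (fun U => awnObj Γ(X, U.1)) (fun _ => Iso.refl _)
    fun _ => isAWNRing_of_isRingAWN (isRingAWN_awnι _)

instance : IsReduced (awn X) :=
  have (i : (awnCover X).I₀) : IsReduced ((awnCover X).X i) :=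
    inferInstanceAs (IsReduced (Spec (awnObj Γ(X, i.1))))
  .of_openCover _ (awnCover X)

theorem preimage_awnπ (U : X.affineOpens) : awnπ X ⁻¹ᵁ U = ((awnCover X).f U).opensRange := by
  simpa using! (awnGlueData X).toBase_preimage_eq_opensRange_ι U

theorem isUnivHomeo_awnπ : FlatMor.IsUnivHomeo (awnπ X) := by
  refine isUnivHomeo_of_openCover _ (fun U : X.affineOpens => (U : X.Opens)) (iSup_affineOpens_eq_top X) fun U => ?_
  let e : Spec (awnObj Γ(X, U)) ≅ (awnπ X ⁻¹ᵁ (U : X.Opens)).toScheme :=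
    ((awnCover X).f U).isoOpensRange ≪≫ (awn X).isoOfEq (preimage_awnπ X U).symm
  have h : e.hom ≫ (awnπ X ∣_ (U : X.Opens)) = Spec.map (awnι Γ(X, U)) ≫ U.2.isoSpec.inv := by
    rw [← cancel_mono (U : X.Opens).ι, Category.assoc, Category.assoc, morphismRestrict_ι,
      ← IsAffineOpen.fromSpec, ← cover_π X U]
    simp [e]
  have hiso : Arrow.mk (awnπ X ∣_ (U : X.Opens)) ≅ Arrow.mk (Spec.map (awnι Γ(X, U))) :=
    Arrow.isoMk e.symm U.2.isoSpec (by
      show e.inv ≫ Spec.map (awnι Γ(X, U)) = (awnπ X ∣_ (U : X.Opens)) ≫ U.2.isoSpec.hom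
      rw [Iso.inv_comp_eq, ← Category.assoc, h, Category.assoc, Iso.inv_hom_id, Category.comp_id])
  haveI : (FlatMor.IsUnivHomeo : MorphismProperty Scheme.{u}).RespectsIso := by
    unfold FlatMor.IsUnivHomeo; infer_instance
  exact ((FlatMor.IsUnivHomeo).arrow_mk_iso_iff hiso).mpr (isRingAWN_awnι _).1

theorem isAWNormalization_awnπ : HTop.IsAWNormalization (awnπ X) := by
  refine ⟨isUnivHomeo_awnπ X, fun Y π hπ => ?_⟩
  obtain ⟨h1, h2, -⟩ := (H7Flat.isUnivHomeo_iff π).mp hπ
  haveI := h1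
  haveI := h2
  let F := (awnGlueData X).functor
  choose χ hχ _ using fun U : X.affineOpens =>
    (isRingAWN_awnι Γ(X, U)).2 Γ(Y, π ⁻¹ᵁ (U : X.Opens)) (π.app U).hom (isUnivHomeo_app π hπ U)
  let h : ∀ U : X.affineOpens, Spec (awnObj Γ(X, U)) ⟶ Y := fun U =>
    Spec.map (CommRingCat.ofHom (χ U)) ≫ (U.2.preimage π).fromSpec
  have hh : ∀ U, h U ≫ π = Spec.map (awnι Γ(X, U)) ≫ U.2.fromSpec := fun U => by
    rw [Category.assoc, ← U.2.SpecMap_appLE_fromSpec π (U.2.preimage π) le_rfl, ← Scheme.Hom.app_eq_appLE,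
      ← Spec.map_comp_assoc]
    congr 2
    exact CommRingCat.hom_ext (hχ U)
  let c : Cocone F :=
    { pt := Y
      ι :=
        { app := fun U => h U
          naturality := fun U V i => by
            haveI : IsReduced (F.obj U) := inferInstanceAs (IsReduced (Spec (awnObj Γ(X, U.1))))
            refine (hom_ext_of_reduced π ?_).trans (Category.comp_id _).symm
            refine (Category.assoc _ _ _).trans ((congrArg (F.map i ≫ ·) (hh V)).trans ?_)
            refine Eq.trans ?_ (hh U).symm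
            refine (congrArg (F.map i ≫ ·) (cover_π X V).symm).trans (Eq.trans ?_ (cover_π X U))
            exact (Category.assoc _ _ _).symm.trans (congrArg (· ≫ awnπ X) (colimit.w F i)) } }
  have hc : colimit.desc F c ≫ π = awnπ X := colimit.hom_ext fun U => by
    rw [colimit.ι_desc_assoc]
    exact (hh U).trans (cover_π X U).symm
  exact ⟨colimit.desc F c, hc, fun k hk => hom_ext_of_reduced π (T := awn X) (hk.trans hc.symm)⟩

end Groth.Agent.H18Subint

namespace Groth.Agent.H18Subint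

open CategoryTheory AlgebraicGeometry

theorem isAWN_of_iso {X Y : Scheme.{u}} (e : X ≅ Y) (h : HTop.IsAWN X) : HTop.IsAWN Y := fun y => by
  obtain ⟨U, hU, hP⟩ := h (e.inv y)
  refine ⟨⟨e.inv ⁻¹ᵁ (U : X.Opens), U.2.preimage e.inv⟩, hU, ?_⟩
  exact awn_of_ringEquiv (asIso (e.inv.app U)).commRingCatIsoToRingEquiv hP

theorem exists_iso_awn {X X' : Scheme.{u}} (ν : X' ⟶ X) (hν : HTop.IsAWNormalization ν) :
    ∃ e : X' ≅ awn X, e.hom ≫ awnπ X = ν := by
  obtain ⟨a, ha, -⟩ := hν.2 (awn X) (awnπ X) (isUnivHomeo_awnπ X)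
  obtain ⟨b, hb, -⟩ := (isAWNormalization_awnπ X).2 X' ν hν.1
  refine ⟨⟨a, b, ?_, ?_⟩, ha⟩
  · exact (hν.2 X' ν hν.1).unique (by rw [Category.assoc, hb, ha]) (Category.id_comp ν)
  · exact ((isAWNormalization_awnπ X).2 _ _ (isUnivHomeo_awnπ X)).unique
      (by rw [Category.assoc, ha, hb]) (Category.id_comp _)

theorem isIso_iff_isAWN {X X' Y : Scheme.{u}} (ν : X' ⟶ X) (hν : HTop.IsAWNormalization ν) (π : Y ⟶ X)
    (hπ : FlatMor.IsUnivHomeo π) (h : X' ⟶ Y) (hh : h ≫ π = ν) : IsIso h ↔ HTop.IsAWN Y := by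
  obtain ⟨e, -⟩ := exists_iso_awn ν hν
  have hX' : HTop.IsAWN X' := isAWN_of_iso e.symm (isAWN_awn X)
  refine ⟨fun _ => isAWN_of_iso (asIso h) hX', fun hY => ?_⟩
  haveI : IsReduced X' := isReduced_of_isOpenImmersion e.hom
  exact isIso_of_isAWN h hY (H7Flat.isUnivHomeo_of_comp_left h π (hh ▸ hν.1) hπ)

theorem isAWN_iff (X : Scheme.{u}) :
    (HTop.IsAWN X ↔ HTop.IsAWNormalization (𝟙 X)) ∧
    (HTop.IsAWN X ↔ ∀ (Y : Scheme.{u}) (π : Y ⟶ X), FlatMor.IsUnivHomeo π → IsReduced Y → IsIso π) := by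
  have hid : FlatMor.IsUnivHomeo (𝟙 X) := by
    intro X' Y' i₁ i₂ f' hf'
    haveI := hf'.flip.isIso_snd_of_isIso
    exact (Scheme.forgetToTop.mapIso (asIso f')) |> TopCat.homeoOfIso |>.isHomeomorph
  have hiso : HTop.IsAWN X → IsIso (awnπ X) := fun h => isIso_of_isAWN _ h (isUnivHomeo_awnπ X)
  refine ⟨⟨fun h => ?_, fun h => ?_⟩, ⟨fun h Y π hπ _ => isIso_of_isAWN π h hπ, fun h => ?_⟩⟩
  · haveI := hiso h
    refine ⟨hid, fun Y π hπ => ?_⟩
    obtain ⟨k, hk, huq⟩ := (isAWNormalization_awnπ X).2 Y π hπ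
    refine ⟨inv (awnπ X) ≫ k, (Category.assoc _ _ _).trans (by rw [hk, IsIso.inv_hom_id]), fun l hl => ?_⟩
    rw [← huq (awnπ X ≫ l) ((Category.assoc _ _ _).trans ((congrArg (awnπ X ≫ ·) hl).trans (Category.comp_id _))),
      IsIso.inv_hom_id_assoc]
  · obtain ⟨e, -⟩ := exists_iso_awn _ h
    exact isAWN_of_iso e.symm (isAWN_awn X)
  · haveI := h _ (awnπ X) (isUnivHomeo_awnπ X) inferInstance
    exact isAWN_of_iso (asIso (awnπ X)) (isAWN_awn X)

end Groth.Agent.H18Subint
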