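import Groth.Agent.H18Subint.SN
import Groth.Agent.H27Perf.Cancel
import Mathlib.AlgebraicGeometry.ZariskisMainTheorem

/-!
# Approximation of maps out of universal homeomorphisms by finite ones
-/

set_option autoImplicit false

universe u

open CategoryTheory Limits AlgebraicGeometry

namespace Groth.Agent.H18Subint

set_option backward.isDefEq.respectTransparency false

variable {S X T T' : Scheme.{u}} [IsLocallyNoetherian T] [X.IsSeparated]
  (fX : X ⟶ S) [LocallyOfFiniteType fX] (fT : T ⟶ S) (ν : T' ⟶ T)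

omit [IsLocallyNoetherian T] in
theorem residueFieldsIso_of_surjective_comp {A B C : Scheme.{u}} (f : A ⟶ B) (g : B ⟶ C) [Surjective f]
    (h : HTop.ResidueFieldsIso (f ≫ g)) : HTop.ResidueFieldsIso g := fun b => by
  obtain ⟨a, rfl⟩ := f.surjective b
  have h' := h a
  rw [Scheme.residueFieldMap_comp] at h'
  haveI := h'
  refine (ConcreteCategory.isIso_iff_bijective _).mpr ⟨RingHom.injective _, fun z => ?_⟩
  obtain ⟨w, hw⟩ := ((ConcreteCategory.isIso_iff_bijective
    (g.residueFieldMap (f a) ≫ f.residueFieldMap a)).mp h').2 ((f.residueFieldMap a).hom z)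
  exact ⟨w, (f.residueFieldMap a).hom.injective hw⟩

include ν in
omit [IsLocallyNoetherian T] in
/-- A map from a universal homeomorphism over `T` factors through a finite one. -/
theorem exists_finite_factor (hν : FlatMor.IsUnivHomeo ν) (g : T' ⟶ X) (hg : g ≫ fX = ν ≫ fT) :
    ∃ (T₁ : Scheme.{u}) (π : T₁ ⟶ T), IsFinite π ∧ FlatMor.IsUnivHomeo π ∧
      ∃ (g₁ : T₁ ⟶ X) (h : T' ⟶ T₁), Surjective h ∧ h ≫ π = ν ∧ g₁ ≫ fX = π ≫ fT ∧ h ≫ g₁ = g := by
  obtain ⟨h1, h2, h3⟩ := (H7Flat.isUnivHomeo_iff ν).mp hν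
  haveI := h1; haveI := h2; haveI := h3
  haveI : IsSeparated fX := inferInstance
  let g' : T' ⟶ pullback fX fT := pullback.lift g ν hg
  let π : g'.image ⟶ T := g'.imageι ≫ pullback.snd fX fT
  let h : T' ⟶ g'.image := g'.toImage
  have hhπ : h ≫ π = ν := by
    rw [← Category.assoc, g'.toImage_imageι, pullback.lift_snd]
  haveI : IsIntegralHom (g' ≫ pullback.snd fX fT) := by rw [pullback.lift_snd]; exact h1
  haveI : IsIntegralHom g' := IsIntegralHom.of_comp g' (pullback.snd fX fT)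
  haveI : IsIntegralHom (h ≫ g'.imageι) := by rw [g'.toImage_imageι]; infer_instance
  haveI : IsIntegralHom h := IsIntegralHom.of_comp h g'.imageι
  haveI : IsDominant h := inferInstanceAs (IsDominant g'.toImage)
  haveI : Surjective h := ⟨fun x => by
    have := (h.isClosedMap.isClosed_range).closure_eq
    exact this.le (h.denseRange x)⟩
  haveI : UniversallyInjective (h ≫ π) := by rw [hhπ]; exact h2
  haveI : UniversallyClosed (h ≫ π) := by rw [hhπ]; infer_instance
  haveI : Surjective (h ≫ π) := by rw [hhπ]; exact h3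
  haveI : UniversallyInjective π := H27Perf.universallyInjective_of_comp_surjective h π
  haveI : UniversallyClosed π := UniversallyClosed.of_comp_surjective h π
  haveI : Surjective π := Surjective.of_comp h π
  haveI : IsProper π := { }
  haveI : LocallyQuasiFinite π := LocallyQuasiFinite.of_injective π.injective
  haveI : IsFinite π := IsFinite.of_isProper_of_locallyQuasiFinite π
  refine ⟨g'.image, π, ‹_›, (H7Flat.isUnivHomeo_iff π).mpr ⟨inferInstance, ‹_›, ‹_›⟩,
    g'.imageι ≫ pullback.fst fX fT, h, ‹_›, hhπ, ?_, ?_⟩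
  · rw [Category.assoc, pullback.condition, ← Category.assoc]
  · rw [← Category.assoc, g'.toImage_imageι, pullback.lift_fst]

omit [IsLocallyNoetherian T] [LocallyOfFiniteType fX] in
/-- Two factorisations agree on a finite universal homeomorphism dominating both. -/
theorem exists_finite_equalizer {T₁ T₂ : Scheme.{u}} (π₁ : T₁ ⟶ T) (π₂ : T₂ ⟶ T) [IsFinite π₁] [IsFinite π₂]
    (hπ₁ : FlatMor.IsUnivHomeo π₁) (hπ₂ : FlatMor.IsUnivHomeo π₂) (hν : FlatMor.IsUnivHomeo ν)
    (g₁ : T₁ ⟶ X) (g₂ : T₂ ⟶ X) (h₁ : T' ⟶ T₁) (h₂ : T' ⟶ T₂) (e₁ : g₁ ≫ fX = π₁ ≫ fT)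
    (e₂ : g₂ ≫ fX = π₂ ≫ fT) (w₁ : h₁ ≫ π₁ = ν) (w₂ : h₂ ≫ π₂ = ν) (hh : h₁ ≫ g₁ = h₂ ≫ g₂) :
    ∃ (T₃ : Scheme.{u}) (π₃ : T₃ ⟶ T) (a₁ : T₃ ⟶ T₁) (a₂ : T₃ ⟶ T₂), IsFinite π₃ ∧ FlatMor.IsUnivHomeo π₃ ∧
      a₁ ≫ π₁ = π₃ ∧ a₂ ≫ π₂ = π₃ ∧ a₁ ≫ g₁ = a₂ ≫ g₂ ∧
      (HTop.ResidueFieldsIso π₁ → HTop.ResidueFieldsIso π₂ → HTop.ResidueFieldsIso π₃) := by
  obtain ⟨i1, u1, s1⟩ := (H7Flat.isUnivHomeo_iff π₁).mp hπ₁
  obtain ⟨i2, u2, s2⟩ := (H7Flat.isUnivHomeo_iff π₂).mp hπ₂
  haveI := u1; haveI := s1; haveI := u2; haveI := s2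
  let P := pullback π₁ π₂
  let p : P ⟶ T := pullback.fst π₁ π₂ ≫ π₁
  haveI : UniversallyInjective (pullback.fst π₁ π₂) := MorphismProperty.of_isPullback
    (P := @UniversallyInjective) (IsPullback.of_hasPullback π₁ π₂).flip u2
  haveI : UniversallyInjective p := MorphismProperty.comp_mem _ _ _ ‹_› u1
  let k : P ⟶ pullback fX fX := pullback.lift (pullback.fst π₁ π₂ ≫ g₁) (pullback.snd π₁ π₂ ≫ g₂) (by
    rw [Category.assoc, Category.assoc, e₁, e₂, ← Category.assoc, ← Category.assoc, pullback.condition])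
  haveI : IsSeparated fX := inferInstance
  haveI : IsClosedImmersion (pullback.diagonal fX) := IsSeparated.isClosedImmersion_diagonal
  let e : pullback (pullback.diagonal fX) k ⟶ P := pullback.snd _ _
  haveI : Surjective e := ⟨fun x => by
    obtain ⟨t, ht⟩ := ((H7Flat.isUnivHomeo_iff ν).mp hν).2.2.surj (p x)
    let l : T' ⟶ P := pullback.lift h₁ h₂ (w₁.trans w₂.symm)
    have hl : l ≫ p = ν := by rw [← Category.assoc, pullback.lift_fst, w₁]
    let m : T' ⟶ pullback (pullback.diagonal fX) k := pullback.lift (h₁ ≫ g₁) l (by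
      refine pullback.hom_ext ?_ ?_
      · simp only [Category.assoc, pullback.diagonal_fst, Category.comp_id, k, l, pullback.lift_fst,
          pullback.lift_fst_assoc]
      · simp only [Category.assoc, pullback.diagonal_snd, Category.comp_id, k, l, pullback.lift_snd,
          pullback.lift_snd_assoc, hh])
    refine ⟨m t, p.injective ?_⟩
    rw [← ht, ← Scheme.Hom.comp_apply, ← Scheme.Hom.comp_apply, pullback.lift_snd_assoc, hl]⟩
  refine ⟨_, e ≫ p, e ≫ pullback.fst π₁ π₂, e ≫ pullback.snd π₁ π₂, inferInstance,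
    (H7Flat.isUnivHomeo_iff _).mpr ⟨inferInstance, MorphismProperty.comp_mem _ _ _ inferInstance ‹_›, inferInstance⟩,
    Category.assoc _ _ _, ?_, ?_, fun r1 r2 => ?_⟩
  · rw [Category.assoc, ← pullback.condition]
  · have hc : e ≫ k = pullback.fst _ _ ≫ pullback.diagonal fX := pullback.condition.symm
    have a := congrArg (· ≫ pullback.fst fX fX) hc
    have b := congrArg (· ≫ pullback.snd fX fX) hc
    simp only [Category.assoc, pullback.diagonal_fst, pullback.diagonal_snd, Category.comp_id, k,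
      pullback.lift_fst, pullback.lift_snd] at a b
    rw [Category.assoc, Category.assoc, a, b]
  · exact residueFieldsIso_comp _ _ (residueFieldsIso_of_isClosedImmersion e)
      (residueFieldsIso_comp _ _ (residueFieldsIso_pullback_fst π₁ π₂ r2) r1)

end Groth.Agent.H18Subint
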