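import Groth.Prelude.Def_W4c1hilbchowincPtFun
import Groth.Agent.H11Val.Point
import Mathlib

/-!
# Functions algebraic along discrete valuation rings
-/

set_option autoImplicit false

universe u

open CategoryTheory AlgebraicGeometry W4c1hilbchowinc IsLocalRing

namespace Groth.Agent.H18Subint

set_option backward.isDefEq.respectTransparency false

variable {A : Type u} [CommRing A]

/-- An element of a ring multiplying a finitely generated ideal with a regular element into itself is integral. -/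
theorem isIntegral_of_mul_mem (Q : Type u) [CommRing Q] [Algebra A Q]
    [IsFractionRing A Q] (b : Q) (P : Ideal A) (hP : P.FG) {p₀ : A} (hp₀ : p₀ ∈ P) (hp₀' : p₀ ∈ nonZeroDivisors A)
    (hb : ∀ p ∈ P, ∃ q ∈ P, algebraMap A Q p * b = algebraMap A Q q) : IsIntegral A b := by
  let M : Submodule A Q := Submodule.map (Algebra.linearMap A Q) P
  haveI : Module.Finite A M := Module.Finite.iff_fg.2 (Submodule.FG.map _ hP)
  have hM : ∀ m : Q, m ∈ M → b * m ∈ M := by
    rintro _ ⟨p, hp, rfl⟩
    obtain ⟨q, hq, e⟩ := hb p hp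
    exact ⟨q, hq, by rw [Algebra.linearMap_apply, Algebra.linearMap_apply, mul_comm b, e]⟩
  let φ : Module.End A M := (LinearMap.mulLeft A b).restrict hM
  obtain ⟨F, hF, hF0⟩ := LinearMap.exists_monic_and_aeval_eq_zero A φ
  have key : ∀ (G : Polynomial A) (m : M), ((Polynomial.aeval φ G m : M) : Q) = Polynomial.aeval b G * (m : Q) := by
    intro G
    induction G using Polynomial.induction_on with
    | C a =>
      intro m
      simp only [Polynomial.aeval_C, Module.algebraMap_end_apply, Submodule.coe_smul, Algebra.smul_def]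
    | add G H hG hH => intro m; simp only [map_add, LinearMap.add_apply, Submodule.coe_add, hG, hH, add_mul]
    | monomial k a hk =>
      intro m
      rw [pow_succ, ← mul_assoc, map_mul, map_mul (Polynomial.aeval b), Polynomial.aeval_X, Polynomial.aeval_X,
        Module.End.mul_apply, hk]
      show _ * (b * (m : Q)) = _
      ring
  refine ⟨F, hF, ?_⟩
  rw [← Polynomial.aeval_def]
  have h0 := key F ⟨algebraMap A Q p₀, p₀, hp₀, rfl⟩
  rw [hF0] at h0
  exact (IsUnit.mul_left_eq_zero (IsLocalization.map_units Q ⟨p₀, hp₀'⟩)).1 h0.symm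

/-- Evaluation of ring elements at the points of the spectrum. -/
noncomputable def ev (A : Type u) [CommRing A] (x : Spec (CommRingCat.of A)) :
    A →+* (Spec (CommRingCat.of A)).residueField x :=
  ((Scheme.ΓSpecIso (CommRingCat.of A)).inv ≫ (Spec (CommRingCat.of A)).Γevaluation x).hom

theorem ev_eq (x : Spec (CommRingCat.of A)) (a : A) :
    ev A x a = (Scheme.Spec.residueFieldIso (CommRingCat.of A) x).inv (algebraMap A x.asIdeal.ResidueField a) := by
  show _ = (CommRingCat.ofHom (algebraMap A x.asIdeal.ResidueField) ≫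
    (Scheme.Spec.residueFieldIso (CommRingCat.of A) x).inv).hom a
  exact (RingHom.congr_fun (congrArg CommRingCat.Hom.hom
    (Scheme.Spec.algebraMap_residueFieldIso_inv (CommRingCat.of A) x)) a).symm

theorem ev_eq_zero_iff (x : Spec (CommRingCat.of A)) (a : A) : ev A x a = 0 ↔ a ∈ x.asIdeal := by
  rw [ev_eq]
  refine Iff.trans ?_ Ideal.algebraMap_residueField_eq_zero
  exact map_eq_zero_iff (Scheme.Spec.residueFieldIso (CommRingCat.of A) x).inv.hom
    ((ConcreteCategory.bijective_of_isIso (Scheme.Spec.residueFieldIso (CommRingCat.of A) x).inv).1)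

theorem exists_ev_mul_eq (x : Spec (CommRingCat.of A)) (z : (Spec (CommRingCat.of A)).residueField x) :
    ∃ s t : A, s ∉ x.asIdeal ∧ ev A x s * z = ev A x t := by
  obtain ⟨w, rfl⟩ := (ConcreteCategory.bijective_of_isIso (Scheme.Spec.residueFieldIso (CommRingCat.of A) x).inv).2 z
  obtain ⟨⟨t', ⟨s', hs'⟩⟩, h⟩ := IsLocalization.surj (nonZeroDivisors (A ⧸ x.asIdeal)) w
  obtain ⟨t, rfl⟩ := Ideal.Quotient.mk_surjective t'
  obtain ⟨s, rfl⟩ := Ideal.Quotient.mk_surjective s'
  refine ⟨s, t, fun hs => nonZeroDivisors.ne_zero hs' (Ideal.Quotient.eq_zero_iff_mem.2 hs), ?_⟩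
  rw [ev_eq, ev_eq, ← map_mul]
  congr 1
  rw [mul_comm]
  exact h

/-- An element interpolating prescribed values at the minimal points. -/
theorem exists_interpolation [IsReduced A] [IsNoetherianRing A] (f : PtFun (Spec (CommRingCat.of A))) :
    ∃ num den : A, den ∈ nonZeroDivisors A ∧
      ∀ x : Spec (CommRingCat.of A), x.asIdeal ∈ minimalPrimes A → ev A x num = ev A x den * f x := by
  classical
  have hfin : (minimalPrimes A).Finite := minimalPrimes.finite_of_isNoetherianRing A
  let pt : ↥(minimalPrimes A) → Spec (CommRingCat.of A) := fun p => ⟨p.1, Ideal.minimalPrimes_isPrime p.2⟩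
  haveI := hfin.fintype
  choose s t hs hst using fun p => exists_ev_mul_eq (pt p) (f (pt p))
  have hsep : ∀ p : ↥(minimalPrimes A), ∃ e : A, e ∉ p.1 ∧ ∀ q : ↥(minimalPrimes A), q ≠ p → e ∈ q.1 := by
    intro p
    haveI := Ideal.minimalPrimes_isPrime p.2
    have : ∀ q : ↥(minimalPrimes A), q ≠ p → ∃ e : A, e ∈ q.1 ∧ e ∉ p.1 := fun q hq =>
      Set.not_subset.1 fun hle => hq (Subtype.ext (le_antisymm hle (p.2.2 ⟨Ideal.minimalPrimes_isPrime q.2, bot_le⟩ hle)))
    choose e he he' using this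
    refine ⟨∏ q, if h : q = p then 1 else e q h, fun hmem => ?_, fun q hq => ?_⟩
    · obtain ⟨q, -, hq⟩ := (Ideal.IsPrime.prod_mem_iff (p := p.1)).1 hmem
      by_cases h : q = p
      · rw [dif_pos h] at hq
        exact (Ideal.minimalPrimes_isPrime p.2).one_notMem hq
      · rw [dif_neg h] at hq
        exact he' q h hq
    · refine Ideal.mem_of_dvd q.1 (Finset.dvd_prod_of_mem _ (Finset.mem_univ q)) ?_
      rw [dif_neg hq]; exact he q hq
  choose e he he' using hsep
  have hev : ∀ (p : ↥(minimalPrimes A)) (u : ↥(minimalPrimes A) → A),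
      ev A (pt p) (∑ q, e q * u q) = ev A (pt p) (e p) * ev A (pt p) (u p) := by
    intro p u
    rw [map_sum, Finset.sum_eq_single p, map_mul]
    · intro q _ hq
      rw [map_mul, (ev_eq_zero_iff (pt p) (e q)).2 (he' q p (Ne.symm hq)), zero_mul]
    · exact fun h => absurd (Finset.mem_univ p) h
  refine ⟨∑ q, e q * t q, ∑ q, e q * s q, ?_, fun x hx => ?_⟩
  · rw [mem_nonZeroDivisors_iff_right]
    intro a ha
    have : a ∈ sInf (minimalPrimes A) := Ideal.mem_sInf.2 fun {q} hq => by
      refine ((Ideal.minimalPrimes_isPrime hq).mem_or_mem (ha ▸ q.zero_mem)).resolve_right fun h => ?_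
      have h' := (ev_eq_zero_iff (pt ⟨q, hq⟩) _).2 h
      rw [hev, mul_eq_zero, ev_eq_zero_iff, ev_eq_zero_iff] at h'
      exact h'.elim (he ⟨q, hq⟩) (hs ⟨q, hq⟩)
    rw [show sInf (minimalPrimes A) = nilradical A from Ideal.sInf_minimalPrimes, nilradical_eq_zero] at this
    exact this
  · show ev A (pt ⟨x.asIdeal, hx⟩) _ = ev A (pt ⟨x.asIdeal, hx⟩) _ * f (pt ⟨x.asIdeal, hx⟩)
    rw [hev, hev, mul_assoc, hst]

/-- The pullback of a section to the spectrum of a ring. -/
theorem pullback_ev {R : Type u} [CommRing R] (g : Spec (CommRingCat.of R) ⟶ Spec (CommRingCat.of A))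
    (y : Spec (CommRingCat.of R)) (a : A) :
    g.residueFieldMap y (ev A (g y) a) = ev R y ((Spec.preimage g).hom a) := by
  show g.residueFieldMap y ((Spec (CommRingCat.of A)).Γevaluation (g y) _) = _
  rw [Scheme.Γevaluation_naturality_apply]
  show (Spec (CommRingCat.of R)).Γevaluation y (((Scheme.ΓSpecIso (CommRingCat.of A)).inv ≫ g.appTop).hom a) = _
  conv_lhs => rw [← Spec.map_preimage g, ← Scheme.ΓSpecIso_inv_naturality]
  rfl

/-- Along a discrete valuation ring through a minimal point, the value of the function is an element of the ring. -/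
theorem dvr_value (f : PtFun (Spec (CommRingCat.of A))) {R : Type u} [CommRing R]
    (g : Spec (CommRingCat.of R) ⟶ Spec (CommRingCat.of A)) (hf : (f.pullback g).IsAlgebraic) :
    ∃ r : R, ∀ y, g.residueFieldMap y (f (g y)) = ev R y r := by
  obtain ⟨s, hs⟩ := hf
  refine ⟨(Scheme.ΓSpecIso (CommRingCat.of R)).hom s, fun y => ?_⟩
  have h : (Spec (CommRingCat.of R)).Γevaluation y s = g.residueFieldMap y (f (g y)) := congrFun hs y
  rw [← h]
  show _ = (Spec (CommRingCat.of R)).Γevaluation y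
    ((Scheme.ΓSpecIso (CommRingCat.of R)).inv ((Scheme.ΓSpecIso (CommRingCat.of R)).hom s))
  rw [Iso.hom_inv_id_apply]

theorem exists_dvr_through [IsNoetherianRing A] {η x : Spec (CommRingCat.of A)} (h : η ⤳ x) (hne : x ≠ η) :
    ∃ (R : Type u) (_ : CommRing R) (_ : IsDomain R) (_ : IsDiscreteValuationRing R)
      (g : Spec (CommRingCat.of R) ⟶ Spec (CommRingCat.of A)),
      g (⊥ : PrimeSpectrum R) = η ∧ g (closedPoint R) = x := by
  obtain ⟨V, g, hV, hgc, hgen⟩ := H11Val.exists_dvr_hom_through (𝟙 (Spec (CommRingCat.of A))) η x h hne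
  refine ⟨V, inferInstance, inferInstance, hV, g, ?_, hgc⟩
  have e : Spec.map (CommRingCat.ofHom V.subtype) (closedPoint _) = (⊥ : PrimeSpectrum V) := by
    refine PrimeSpectrum.ext ?_
    show Ideal.comap V.subtype (maximalIdeal _) = ⊥
    rw [maximalIdeal_eq_bot]
    exact Ideal.comap_bot_of_injective _ V.subtype_injective
  rw [← e, ← Scheme.Hom.comp_apply, hgen, Category.comp_id]
  exact Scheme.fromSpecResidueField_apply η _

theorem existsUnique_of_variesAlongDVR [IsReduced A] [IsNoetherianRing A] [IsIntegrallyClosed A]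
    (f : PtFun (Spec (CommRingCat.of A))) (hf : f.VariesAlongDVR) :
    ∃! a : Γ(Spec (CommRingCat.of A), ⊤), PtFun.ofSection (Spec (CommRingCat.of A)) a = f := by
  classical
  have uniq : ∀ a b : A, (∀ x, ev A x a = ev A x b) → a = b := fun a b h => sub_eq_zero.1 <| by
    have : a - b ∈ nilradical A := by
      rw [nilradical_eq_sInf, Ideal.mem_sInf]
      intro q hq
      exact (ev_eq_zero_iff (⟨q, hq⟩ : PrimeSpectrum A) _).1 (by rw [map_sub, h, sub_self])
    rwa [nilradical_eq_zero] at this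
  suffices ∃ a : A, ∀ x, ev A x a = f x by
    obtain ⟨a, ha⟩ := this
    refine ⟨(Scheme.ΓSpecIso (CommRingCat.of A)).inv a, funext ha, fun b hb => ?_⟩
    have : (Scheme.ΓSpecIso (CommRingCat.of A)).hom b = a := uniq _ _ fun x => by
      rw [ha, ← congrFun hb x]
      show (Spec (CommRingCat.of A)).Γevaluation x
        ((Scheme.ΓSpecIso (CommRingCat.of A)).inv ((Scheme.ΓSpecIso (CommRingCat.of A)).hom b)) = _
      rw [Iso.hom_inv_id_apply]
      rfl
    rw [← this, Iso.hom_inv_id_apply]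
  obtain ⟨num, den, hden, hnd⟩ := exists_interpolation f
  -- the value along a discrete valuation ring through a minimal point
  have key : ∀ (η : Spec (CommRingCat.of A)), η.asIdeal ∈ minimalPrimes A →
      ∀ x, η ⤳ x → x ≠ η → ∃ (R : Type u) (_ : CommRing R) (_ : IsDomain R) (_ : IsDiscreteValuationRing R)
        (φ : A →+* R) (r : R), φ den ≠ 0 ∧ φ num = φ den * r ∧ (∀ a, φ a ∈ maximalIdeal R ↔ a ∈ x.asIdeal) ∧
        (∀ a, φ a = r → ev A x a = f x) := by
    intro η hη x hηx hne
    obtain ⟨R, _, _, _, g, hg0, hg1⟩ := exists_dvr_through hηx hne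
    obtain ⟨r, hr⟩ := dvr_value f g (hf R g)
    let φ : A →+* R := (Spec.preimage g).hom
    have hker : ∀ (y : Spec (CommRingCat.of R)) (a : A), φ a ∈ PrimeSpectrum.asIdeal y ↔ a ∈ (g y).asIdeal :=
      fun y a => by
        show a ∈ (Spec.map (Spec.preimage g) y).asIdeal ↔ _
        rw [Spec.map_preimage]
    have hev0 : Function.Injective (ev R (⊥ : PrimeSpectrum R)) := (injective_iff_map_eq_zero _).2 fun a ha =>
      Ideal.mem_bot.1 ((ev_eq_zero_iff (⊥ : PrimeSpectrum R) a).1 ha)
    refine ⟨R, ‹_›, ‹_›, ‹_›, φ, r, fun h0 => ?_, hev0 ?_, fun a => ?_, fun a ha => ?_⟩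
    · have : den ∈ (g (⊥ : PrimeSpectrum R)).asIdeal := (hker _ _).1 (h0 ▸ Ideal.mem_bot.2 rfl)
      rw [hg0] at this
      exact notMem_nonZeroDivisors_of_mem_mem_minimalPrimes this hη hden
    · rw [map_mul, ← pullback_ev, ← pullback_ev, ← hr, ← map_mul, hnd _ (hg0 ▸ hη)]
    · exact (hker (closedPoint R) a).trans (by rw [hg1])
    · subst hg1
      refine (g.residueFieldMap (closedPoint R)).hom.injective ?_
      show g.residueFieldMap (closedPoint R) (ev A _ a) = g.residueFieldMap (closedPoint R) (f _)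
      rw [pullback_ev, hr]
      exact congrArg _ ha
  let Q := FractionRing A
  let a₀ : Q := IsLocalization.mk' Q num ⟨den, hden⟩
  have ha₀ : algebraMap A Q den * a₀ = algebraMap A Q num := IsLocalization.mk'_spec' Q num ⟨den, hden⟩
  obtain ⟨a, ha⟩ : ∃ a, algebraMap A Q a = a₀ := by
    by_contra hno
    -- colon ideals of elements `c • a₀ + d`
    let col : A → Ideal A := fun c =>
      { carrier := {p | ∃ q, algebraMap A Q p * (algebraMap A Q c * a₀) = algebraMap A Q q}
        add_mem' := fun ⟨q, hq⟩ ⟨q', hq'⟩ => ⟨q + q', by rw [map_add, map_add, add_mul, hq, hq']⟩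
        zero_mem' := ⟨0, by rw [map_zero, zero_mul]⟩
        smul_mem' := fun m p ⟨q, hq⟩ => ⟨m * q, by rw [smul_eq_mul, map_mul, map_mul, mul_assoc, hq]⟩ }
    let S : Set (Ideal A) := {I | ∃ c, I = col c ∧ (1 : A) ∉ col c}
    have hS : S.Nonempty := ⟨col 1, 1, rfl, fun ⟨q, hq⟩ => hno ⟨q, by rw [← hq, map_one, one_mul, one_mul]⟩⟩
    obtain ⟨I, ⟨c, rfl, hc⟩, hmax⟩ := set_has_maximal_iff_noetherian.2 inferInstance S hS
    have hden' : den ∈ col c := ⟨c * num, by rw [map_mul, mul_left_comm, ha₀]⟩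
    haveI hP : (col c).IsPrime := by
      refine ⟨fun h => hc (h ▸ Submodule.mem_top), fun {u v} huv => or_iff_not_imp_left.2 fun hu => ?_⟩
      obtain ⟨q, hq⟩ := huv
      have h1 : (1 : A) ∉ col (c * u) := fun ⟨w, hw⟩ => hu ⟨w, by
        rw [← hw, map_one, map_mul]; ring⟩
      have hle : col c ≤ col (c * u) := fun p ⟨w, hw⟩ => ⟨u * w, by
        rw [map_mul, map_mul, ← hw]; ring⟩
      have : col (c * u) ≤ col c := le_of_eq (eq_of_le_of_not_lt hle (hmax _ ⟨_, rfl, h1⟩)).symm
      exact this ⟨q, by rw [← hq, map_mul, map_mul]; ring⟩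
    refine hno ?_
    have hint : IsIntegral A (algebraMap A Q c * a₀) := by
      refine isIntegral_of_mul_mem Q _ (col c) (IsNoetherian.noetherian _) hden' hden fun p hp => ?_
      obtain ⟨q, hq⟩ := hp
      refine ⟨q, ?_, hq⟩
      by_contra hqP
      obtain ⟨η, hη, hηP⟩ := Ideal.exists_minimalPrimes_le (I := (⊥ : Ideal A)) (J := col c) bot_le
      have hne : (⟨col c, hP⟩ : PrimeSpectrum A) ≠ ⟨η, Ideal.minimalPrimes_isPrime hη⟩ := fun e => by
        have e' : col c = η := congrArg PrimeSpectrum.asIdeal e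
        exact notMem_nonZeroDivisors_of_mem_mem_minimalPrimes (e' ▸ hden') hη hden
      obtain ⟨R, _, _, _, φ, r, hd0, hnum, hmem, -⟩ := key ⟨η, Ideal.minimalPrimes_isPrime hη⟩ hη ⟨col c, hP⟩
        ((PrimeSpectrum.le_iff_specializes (⟨η, Ideal.minimalPrimes_isPrime hη⟩ : PrimeSpectrum A) ⟨col c, hP⟩).1 hηP) hne
      have e1 : den * q = p * (c * num) := IsFractionRing.injective A Q (by
        rw [map_mul, map_mul, map_mul, ← hq, ← ha₀]; ring)
      have e2 : φ q = φ p * (φ c * r) := mul_left_cancel₀ hd0 (by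
        rw [← map_mul, e1, map_mul, map_mul, hnum]; ring)
      exact hqP ((hmem q).1 (e2 ▸ Ideal.mul_mem_right _ _ ((hmem p).2 ⟨q, hq⟩)))
    obtain ⟨w, hw⟩ := IsIntegrallyClosed.isIntegral_iff.1 hint
    exact absurd ⟨w, by rw [map_one, one_mul, hw]⟩ hc
  refine ⟨a, fun x => ?_⟩
  have hnum : num = den * a := IsFractionRing.injective A Q (by rw [map_mul, ha, ha₀])
  obtain ⟨η, hη, hηx⟩ := Ideal.exists_minimalPrimes_le (I := (⊥ : Ideal A)) (J := x.asIdeal) bot_le
  by_cases hne : x = ⟨η, Ideal.minimalPrimes_isPrime hη⟩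
  · subst hne
    have h := hnd ⟨η, Ideal.minimalPrimes_isPrime hη⟩ hη
    rw [hnum, map_mul] at h
    refine mul_left_cancel₀ (fun h0 => ?_) h
    exact notMem_nonZeroDivisors_of_mem_mem_minimalPrimes ((ev_eq_zero_iff _ den).1 h0) hη hden
  · obtain ⟨R, _, _, _, φ, r, hd0, hφ, -, hval⟩ := key ⟨η, Ideal.minimalPrimes_isPrime hη⟩ hη x
      ((PrimeSpectrum.le_iff_specializes (⟨η, Ideal.minimalPrimes_isPrime hη⟩ : PrimeSpectrum A) x).1 hηx) hne
    refine hval a (mul_left_cancel₀ hd0 ?_)
    rw [← map_mul, ← hnum, hφ]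

end Groth.Agent.H18Subint
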