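import Groth.Agent.H18Subint.SN
import Mathlib.AlgebraicGeometry.AffineSpace
import Mathlib.AlgebraicGeometry.ZariskisMainTheorem

/-!
# Descent of functions along proper surjective morphisms to seminormal schemes
-/

set_option autoImplicit false

universe u

open CategoryTheory Limits AlgebraicGeometry TensorProduct

namespace Groth.Agent.H18Subint

set_option backward.isDefEq.respectTransparency false

/-- The Amitsur equaliser over a field. -/
theorem mem_range_of_tmul_eq {K L : Type u} [Field K] [CommRing L] [Nontrivial L] [Algebra K L] (a : L)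
    (h : (a ⊗ₜ[K] (1 : L)) = (1 : L) ⊗ₜ[K] a) : a ∈ (algebraMap K L).range := by
  by_contra ha
  have hni : a ∉ Submodule.span K {(1 : L)} := fun hm => by
    obtain ⟨r, hr⟩ := Submodule.mem_span_singleton.1 hm
    exact ha ⟨r, by rw [← hr, Algebra.smul_def, mul_one]⟩
  obtain ⟨φ, hφa, hφ⟩ := Submodule.exists_dual_map_eq_bot_of_notMem hni inferInstance
  have h1 : φ 1 = 0 := by
    have : φ 1 ∈ (Submodule.span K {(1 : L)}).map φ := ⟨1, Submodule.mem_span_singleton_self 1, rfl⟩
    rwa [hφ, Submodule.mem_bot] at this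
  have := congrArg (fun t => TensorProduct.lid K L (LinearMap.rTensor L φ t)) h
  simp only [LinearMap.rTensor_tmul, TensorProduct.lid_tmul, h1, zero_smul] at this
  exact hφa (by
    rcases eq_or_ne (φ a) 0 with h0 | h0
    · exact h0
    · exact absurd (by simpa [Algebra.smul_def] using this : φ a = 0) h0)

variable {X Y : Scheme.{u}} (π : Y ⟶ X) (s : Γ(Y, ⊤))

/-- The value of a section at a field-valued point. -/
noncomputable def val {K : CommRingCat.{u}} (b : Spec K ⟶ Y) : K := (Scheme.ΓSpecIso K).hom (b.appTop s)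

theorem val_comp {K L : CommRingCat.{u}} (φ : K ⟶ L) (b : Spec K ⟶ Y) :
    val s (Spec.map φ ≫ b) = φ (val s b) := by
  simp only [val, Scheme.Hom.comp_appTop, CommRingCat.comp_apply]
  rw [← CommRingCat.comp_apply, Scheme.ΓSpecIso_naturality]
  rfl

theorem appTop_comp_eq (hs : (pullback.fst π π).appTop s = (pullback.snd π π).appTop s)
    {K : CommRingCat.{u}} (b b' : Spec K ⟶ Y) (h : b ≫ π = b' ≫ π) : val s b = val s b' := by
  conv_lhs => rw [← pullback.lift_fst b b' h]
  conv_rhs => rw [← pullback.lift_snd b b' h]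
  simp only [val, Scheme.Hom.comp_appTop, CommRingCat.comp_apply, hs]

theorem mem_range_of_forall_eq {k L : Type u} [Field k] [Field L] (f : k →+* L) (a : L)
    (h : ∀ (M : Type u) [CommRing M] (i j : L →+* M), i.comp f = j.comp f → i a = j a) : a ∈ f.range := by
  letI := f.toAlgebra
  exact mem_range_of_tmul_eq (K := k) a (h (L ⊗[k] L) Algebra.TensorProduct.includeLeftRingHom
    (Algebra.TensorProduct.includeRight (R := k)).toRingHom
    (RingHom.ext fun r => Algebra.TensorProduct.tmul_one_eq_one_tmul (R := k) r))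

theorem exists_compositum {k L L' : Type u} [Field k] [Field L] [Field L'] (f : k →+* L) (g : k →+* L') :
    ∃ (M : Type u) (_ : Field M) (p : L →+* M) (l : L' →+* M), p.comp f = l.comp g := by
  letI := f.toAlgebra
  letI := g.toAlgebra
  obtain ⟨m, hm⟩ := Ideal.exists_maximal (L ⊗[k] L')
  exact ⟨(L ⊗[k] L') ⧸ m, Ideal.Quotient.field m,
    (Ideal.Quotient.mk m).comp Algebra.TensorProduct.includeLeftRingHom,
    (Ideal.Quotient.mk m).comp (Algebra.TensorProduct.includeRight (R := k)).toRingHom,
    RingHom.ext fun r => congrArg (Ideal.Quotient.mk m) (Algebra.TensorProduct.tmul_one_eq_one_tmul (R := k) r)⟩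

/-- The value of a descended function at a point. -/
theorem exists_value [Surjective π] (hs : (pullback.fst π π).appTop s = (pullback.snd π π).appTop s) (x : X) :
    ∃ c : X.residueField x, ∀ (L : Type u) [Field L] (b : Spec (CommRingCat.of L) ⟶ Y)
      (e : X.residueField x ⟶ CommRingCat.of L), b ≫ π = Spec.map e ≫ X.fromSpecResidueField x →
        val s b = e c := by
  obtain ⟨y, rfl⟩ := π.surjective x
  have hy : Y.fromSpecResidueField y ≫ π = Spec.map (π.residueFieldMap y) ≫ X.fromSpecResidueField (π y) :=
    (Scheme.Hom.SpecMap_residueFieldMap_fromSpecResidueField π y).symm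
  obtain ⟨c, hc⟩ := mem_range_of_forall_eq (π.residueFieldMap y).hom (val s (Y.fromSpecResidueField y))
    fun M _ i j hij => by
      have hij' : π.residueFieldMap y ≫ CommRingCat.ofHom i = π.residueFieldMap y ≫ CommRingCat.ofHom j :=
        CommRingCat.hom_ext hij
      have h2 := appTop_comp_eq π s hs (Spec.map (CommRingCat.ofHom i) ≫ Y.fromSpecResidueField y)
        (Spec.map (CommRingCat.ofHom j) ≫ Y.fromSpecResidueField y)
        (by rw [Category.assoc, Category.assoc, hy, ← Spec.map_comp_assoc, hij', Spec.map_comp_assoc])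
      rw [val_comp, val_comp] at h2
      exact h2
  refine ⟨c, fun L _ b e hb => ?_⟩
  obtain ⟨M, _, p, l, hpl⟩ := exists_compositum (π.residueFieldMap y).hom e.hom
  have hpl' : π.residueFieldMap y ≫ CommRingCat.ofHom p = e ≫ CommRingCat.ofHom l := CommRingCat.hom_ext hpl
  have h3 := appTop_comp_eq π s hs (Spec.map (CommRingCat.ofHom p) ≫ Y.fromSpecResidueField y)
    (Spec.map (CommRingCat.ofHom l) ≫ b)
    (by rw [Category.assoc, Category.assoc, hy, hb, ← Spec.map_comp_assoc, ← Spec.map_comp_assoc, hpl'])
  rw [val_comp, val_comp, ← hc] at h3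
  exact l.injective (h3.symm.trans (RingHom.congr_fun hpl c))

theorem existsUnique_descend [IsProper π] [Surjective π] [IsReduced Y] (hX : HTop.IsSeminormal X)
    (hs : (pullback.fst π π).appTop s = (pullback.snd π π).appTop s) :
    ∃! t : Γ(X, ⊤), π.appTop t = s := by
  haveI := isReduced_of_isSeminormal hX
  haveI : IsSchemeTheoreticallyDominant π :=
    (isSchemeTheoreticallyDominant_iff_isDominant π).2 inferInstance
  suffices ∃ t : Γ(X, ⊤), π.appTop t = s by
    obtain ⟨t, ht⟩ := this
    exact ⟨t, ht, fun t' ht' => π.app_injective ⊤ (ht'.trans ht.symm)⟩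
  let n := ULift.{u} Unit
  let p : 𝔸(n; X) ⟶ X := 𝔸(n; X) ↘ X
  let γ : Y ⟶ 𝔸(n; X) := AffineSpace.homOfVector π (fun _ => s)
  have hγ : γ ≫ p = π := AffineSpace.homOfVector_over π _
  let T := γ.image
  let q : T ⟶ X := γ.imageι ≫ p
  have hq : γ.toImage ≫ q = π := by rw [← Category.assoc, γ.toImage_imageι, hγ]
  haveI : IsProper (γ ≫ p) := by rw [hγ]; infer_instance
  haveI : IsProper γ := IsProper.of_comp γ p
  haveI : IsProper (γ.toImage ≫ γ.imageι) := by rw [γ.toImage_imageι]; infer_instance
  haveI : IsProper γ.toImage := IsProper.of_comp γ.toImage γ.imageι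
  haveI : Surjective γ.toImage := ⟨fun z => by
    have := (γ.toImage.isClosedMap.isClosed_range).closure_eq
    exact this.le (γ.toImage.denseRange z)⟩
  haveI : IsReduced T := by
    refine @IsReduced.of_openCover _ (Scheme.openCoverOfIsOpenCover T
      (fun U : (𝔸(n; X)).affineOpens => γ.imageι ⁻¹ᵁ U.1) ?_) fun U => ?_
    · exact TopologicalSpace.IsOpenCover.comap (iSup_affineOpens_eq_top _) _
    · haveI : IsAffine (γ.imageι ⁻¹ᵁ U.1).toScheme := U.2.preimage γ.imageι
      haveI : _root_.IsReduced Γ(T, γ.imageι ⁻¹ᵁ U.1) := isReduced_of_injective _ (γ.toImage_app_injective U)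
      haveI : _root_.IsReduced Γ((γ.imageι ⁻¹ᵁ U.1).toScheme, ⊤) :=
        isReduced_of_injective _ (γ.imageι ⁻¹ᵁ U.1).topIso.commRingCatIsoToRingEquiv.injective
      exact @isReduced_of_isAffine_isReduced (γ.imageι ⁻¹ᵁ U.1).toScheme ‹_› ‹_›
  choose c hc using exists_value π s hs
  let m (x : X) : Spec (X.residueField x) ⟶ 𝔸(n; X) :=
    AffineSpace.homOfVector (X.fromSpecResidueField x) fun _ => (Scheme.ΓSpecIso _).inv (c x)
  have hm : ∀ (x : X) (L : Type u) [Field L] (b : Spec (CommRingCat.of L) ⟶ Y)
      (e : X.residueField x ⟶ CommRingCat.of L), b ≫ π = Spec.map e ≫ X.fromSpecResidueField x →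
      b ≫ γ = Spec.map e ≫ m x := by
    intro x L _ b e hb
    refine AffineSpace.hom_ext ?_ fun i => ?_
    · rw [Category.assoc, Category.assoc, hγ, AffineSpace.homOfVector_over, hb]
    · simp only [Scheme.Hom.comp_appTop, CommRingCat.comp_apply]
      rw [AffineSpace.homOfVector_appTop_coord, AffineSpace.homOfVector_appTop_coord]
      refine (ConcreteCategory.bijective_of_isIso (Scheme.ΓSpecIso (CommRingCat.of L)).hom).1 ?_
      rw [← CommRingCat.comp_apply (Spec.map e).appTop, Scheme.ΓSpecIso_naturality]
      simp only [ConcreteCategory.comp_apply, Iso.inv_hom_id_apply]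
      exact hc x L b e hb
  have hpt : ∀ (x : X) (K : Type u) [Field K] (g : Spec (CommRingCat.of K) ⟶ T)
      (e : X.residueField x ⟶ CommRingCat.of K), g ≫ q = Spec.map e ≫ X.fromSpecResidueField x →
      g ≫ γ.imageι = Spec.map e ≫ m x := by
    intro x K _ g e hg
    haveI : Surjective (pullback.fst g γ.toImage) := MorphismProperty.pullback_fst (P := @Surjective) _ _ ‹_›
    obtain ⟨w, -⟩ := (pullback.fst g γ.toImage).surjective (IsLocalRing.closedPoint K)
    let P := pullback g γ.toImage
    let l : CommRingCat.of K ⟶ P.residueField w := Spec.preimage (P.fromSpecResidueField w ≫ pullback.fst _ _)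
    have hl : Spec.map l = P.fromSpecResidueField w ≫ pullback.fst _ _ := Spec.map_preimage _
    have hb : (P.fromSpecResidueField w ≫ pullback.snd g γ.toImage) ≫ γ.toImage = Spec.map l ≫ g := by
      rw [hl, Category.assoc, Category.assoc, pullback.condition]
    have := hm x (P.residueField w) (P.fromSpecResidueField w ≫ pullback.snd g γ.toImage) (e ≫ l) (by
      rw [← hq, ← Category.assoc, hb, Category.assoc, hg, Spec.map_comp_assoc])
    have hb2 : (P.fromSpecResidueField w ≫ pullback.snd g γ.toImage) ≫ γ = Spec.map l ≫ g ≫ γ.imageι := by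
      rw [← Category.assoc (Spec.map l), ← hb]
      simp only [Category.assoc, γ.toImage_imageι]
    rw [hb2, Spec.map_comp_assoc] at this
    rename' this => hgl
    haveI : IsDominant (Spec.map l) := ⟨Function.Surjective.denseRange fun z => ⟨IsLocalRing.closedPoint _, Subsingleton.elim _ _⟩⟩
    refine ext_of_isDominant_of_isSeparated p ?_ (Spec.map l) hgl
    rw [Category.assoc, Category.assoc, AffineSpace.homOfVector_over]
    exact hg
  haveI : UniversallyInjective q := by
    suffices h2 : ∀ (K : Type u) [Field K], Function.Injective (fun g : Spec (CommRingCat.of K) ⟶ T => g ≫ q) from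
      ((tfae_universallyInjective q).out 1 0).1 h2
    intro K _ g₁ g₂ hg
    obtain ⟨⟨x, e⟩, he⟩ := (X.SpecToEquivOfField K).symm.surjective (g₁ ≫ q)
    have he' : g₁ ≫ q = Spec.map e ≫ X.fromSpecResidueField x := he.symm
    exact (cancel_mono γ.imageι).1 ((hpt x K g₁ e he').trans (hpt x K g₂ e (hg.symm.trans he')).symm)
  haveI : Surjective q := by
    haveI : Surjective (γ.toImage ≫ q) := by rw [hq]; infer_instance
    exact Surjective.of_comp γ.toImage q
  haveI : UniversallyClosed (γ.toImage ≫ q) := by rw [hq]; infer_instance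
  haveI : UniversallyClosed q := UniversallyClosed.of_comp_surjective γ.toImage q
  haveI : IsAffineHom q := inferInstance
  haveI : IsIntegralHom q := (IsIntegralHom.iff_universallyClosed_and_isAffineHom).2 ⟨‹_›, ‹_›⟩
  have hres : HTop.ResidueFieldsIso q := by
    refine residueFieldsIso_of_exists_lift q fun z => ?_
    obtain ⟨y, hy⟩ := π.surjective (q z)
    haveI : IsClosedImmersion (pullback.snd γ.imageι (m (q z))) :=
      MorphismProperty.pullback_snd (P := @IsClosedImmersion) _ _ inferInstance
    haveI : Surjective (pullback.snd γ.imageι (m (q z))) := ⟨fun w => by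
      have h1 := congrArg (fun k => k (IsLocalRing.closedPoint _)) (hm (q z) (Y.residueField y)
        (Y.fromSpecResidueField y) ((X.residueFieldCongr hy.symm).hom ≫ π.residueFieldMap y) (by
          rw [Spec.map_comp_assoc, Scheme.residueFieldCongr_fromSpecResidueField]
          exact (Scheme.Hom.SpecMap_residueFieldMap_fromSpecResidueField π y).symm))
      simp only [Scheme.Hom.comp_apply, Scheme.fromSpecResidueField_apply] at h1
      obtain ⟨o, -, ho⟩ := Scheme.Pullback.exists_preimage_pullback (f := γ.imageι) (g := m (q z))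
        (γ.toImage y) w (by rw [← Scheme.Hom.comp_apply, γ.toImage_imageι]; exact (congrArg γ (Scheme.fromSpecResidueField_apply y _)).symm.trans (h1.trans (congrArg (m (q z)) (Subsingleton.elim _ _))))
      exact ⟨o, ho⟩⟩
    haveI := isIso_of_isClosedImmersion_of_surjective (pullback.snd γ.imageι (m (q z)))
    refine ⟨inv (pullback.snd γ.imageι (m (q z))) ≫ pullback.fst _ _, ?_⟩
    rw [Category.assoc, pullback.condition_assoc, AffineSpace.homOfVector_over, IsIso.inv_hom_id_assoc]
  obtain ⟨h, hh⟩ := exists_section_of_subintegral (𝟙 X) hX q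
    ((H7Flat.isUnivHomeo_iff q).mpr ⟨inferInstance, ‹_›, ‹_›⟩) hres
  refine ⟨(h ≫ γ.imageι).appTop (AffineSpace.coord X ⟨()⟩), ?_⟩
  have : π ≫ h ≫ γ.imageι = γ := by
    refine ext_of_fromSpecResidueField_eq _ _ p Set.univ dense_univ (fun y _ => ?_) ?_
    · rw [hm (π y) (Y.residueField y) _ (π.residueFieldMap y)
        (Scheme.Hom.SpecMap_residueFieldMap_fromSpecResidueField π y).symm]
      have := hpt (π y) (Y.residueField y) (Y.fromSpecResidueField y ≫ π ≫ h) (π.residueFieldMap y) (by
        simp only [Category.assoc, hh, Category.comp_id]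
        exact (Scheme.Hom.SpecMap_residueFieldMap_fromSpecResidueField π y).symm)
      simpa only [Category.assoc] using this
    · simp only [Category.assoc]
      rw [hγ]
      exact congrArg (π ≫ ·) hh |>.trans (Category.comp_id _)
  rw [← CommRingCat.comp_apply, ← Scheme.Hom.comp_appTop, this, AffineSpace.homOfVector_appTop_coord]

end Groth.Agent.H18Subint
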