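import Groth.Agent.H18Subint.SN
import Groth.Prelude.Def_Pi1
import Groth.Agent.S15941

/-!
# Seminormality is local at primes; normal schemes are seminormal
-/

set_option autoImplicit false

universe u

open CategoryTheory AlgebraicGeometry

namespace Groth.Agent.H18Subint

variable {A : Type u} [CommRing A]

theorem isReduced_of_primes
    (h : ∀ P : Ideal A, [P.IsMaximal] → _root_.IsReduced (Localization.AtPrime P)) : _root_.IsReduced A :=
  isReduced_ofLocalizationMaximal A fun P hP => @h P hP

theorem sn_of_primes (h : ∀ P : Ideal A, [P.IsMaximal] → HTop.IsSeminormalRing (Localization.AtPrime P)) :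
    HTop.IsSeminormalRing A := by
  haveI := isReduced_of_primes (A := A) fun P _ => isReduced_of_sn (h P)
  intro x y hxy
  obtain ⟨C, _, _, t, -, -, h3, h4, h5⟩ := exists_sn_ext x y hxy
  let q := Ideal.Quotient.mk (nilradical C)
  have hinj := injective_of_isReduced (lf_quotient_nilradical h3)
  let R := LinearMap.range (Algebra.linearMap A (C ⧸ nilradical C))
  have hmem : q t ∈ R := by
    suffices htop : R.colon {q t} = ⊤ by
      have := Submodule.mem_colon_singleton.mp (htop ▸ trivial : (1 : A) ∈ R.colon {q t})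
      rwa [one_smul] at this
    by_contra hne
    obtain ⟨P, hP, hle⟩ := Ideal.exists_le_maximal _ hne
    suffices hex : ∃ r ∉ P, r • q t ∈ R by
      obtain ⟨r, hr, hr'⟩ := hex
      exact hr (hle (Submodule.mem_colon_singleton.mpr hr'))
    obtain ⟨a, ⟨e1, e2⟩, -⟩ := @h P hP (algebraMap A _ x) (algebraMap A _ y) (by rw [← map_pow, hxy, map_pow])
    obtain ⟨⟨a₀, s⟩, hs⟩ := IsLocalization.surj P.primeCompl a
    let M := Algebra.algebraMapSubmonoid (C ⧸ nilradical C) P.primeCompl
    let L := Localization M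
    haveI : _root_.IsReduced L := isReduced_localizationPreserves M L inferInstance
    have hM : ∀ r : P.primeCompl, IsUnit (((algebraMap (C ⧸ nilradical C) L).comp (algebraMap A _)) (r : A)) :=
      fun r => IsLocalization.map_units L (⟨_, r, r.2, rfl⟩ : M)
    let r : Localization.AtPrime P →+* L := IsLocalization.lift hM
    have hr : ∀ z, r (algebraMap A _ z) = algebraMap (C ⧸ nilradical C) L (algebraMap A _ z) :=
      fun z => IsLocalization.lift_eq hM z
    have he : r a = algebraMap (C ⧸ nilradical C) L (q t) := eq_of_sq_cube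
      (by rw [← map_pow, ← e1, hr, ← map_pow, ← map_pow, h4]; rfl)
      (by rw [← map_pow, ← e2, hr, ← map_pow, ← map_pow, h5]; rfl)
    have h' := congrArg r hs
    rw [map_mul, he, hr, hr, ← map_mul] at h'
    obtain ⟨⟨_, s', hs', rfl⟩, hm⟩ := (IsLocalization.eq_iff_exists M L).mp h'
    refine ⟨s' * s, fun hc => (hP.isPrime.mem_or_mem hc).elim hs' s.2, s' * a₀, ?_⟩
    rw [Algebra.linearMap_apply, map_mul, Algebra.smul_def, map_mul]
    rw [mul_assoc]
    exact hm.symm.trans (by rw [mul_comm (q t)])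
  obtain ⟨a, ha⟩ := hmem
  change algebraMap A (C ⧸ nilradical C) a = q t at ha
  have e1 : x = a ^ 2 := hinj (by rw [map_pow, ha, ← map_pow, h4]; rfl)
  have e2 : y = a ^ 3 := hinj (by rw [map_pow, ha, ← map_pow, h5]; rfl)
  exact ⟨a, ⟨e1, e2⟩, fun b hb => eq_of_sq_cube (hb.1.symm.trans e1) (hb.2.symm.trans e2)⟩

set_option backward.isDefEq.respectTransparency false in
theorem isSeminormal_of_isNormalScheme {X : Scheme.{u}} (hX : Pi1.IsNormalScheme X) : HTop.IsSeminormal X := by
  intro x
  obtain ⟨U, hU, hx, -⟩ := exists_isAffineOpen_mem_and_subset (U := ⊤) (Set.mem_univ x)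
  refine ⟨⟨U, hU⟩, hx, sn_of_primes fun P hP => ?_⟩
  let y : U.toScheme := hU.isoSpec.inv (⟨P, hP.isPrime⟩ : PrimeSpectrum Γ(X, U))
  letI := TopCat.Presheaf.algebra_section_stalk X.presheaf (⟨y.1, y.2⟩ : U)
  have := hU.isLocalization_stalk ⟨y.1, y.2⟩
  have hP' : (hU.primeIdealOf ⟨y.1, y.2⟩).asIdeal = P := by
    have : hU.primeIdealOf ⟨y.1, y.2⟩ = (⟨P, hP.isPrime⟩ : PrimeSpectrum Γ(X, U)) := by
      show hU.isoSpec.hom y = _
      rw [← Scheme.Hom.comp_apply, Iso.inv_hom_id]
      rfl
    exact congrArg PrimeSpectrum.asIdeal this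
  haveI : IsLocalization P.primeCompl (X.presheaf.stalk y.1) := by
    have h2 : P.primeCompl = (hU.primeIdealOf ⟨y.1, y.2⟩).asIdeal.primeCompl := by ext; exact not_congr (by rw [← hP'])
    rw [h2]; exact this
  obtain ⟨h1, h2⟩ := hX y.1
  exact sn_of_ringEquiv (IsLocalization.algEquiv P.primeCompl (X.presheaf.stalk y.1)
    (Localization.AtPrime P)).toRingEquiv (S15941.result _)

theorem exists_factor_normalization {Sn S X' : Scheme.{u}} (π : Sn ⟶ S) (hn : Pi1.IsNormalScheme Sn)
    (ν : X' ⟶ S) (hν : HTop.IsSeminormalization ν) : ∃ g : Sn ⟶ X', g ≫ ν = π :=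
  exists_section_of_subintegral π (isSeminormal_of_isNormalScheme hn) ν hν.1.1 hν.1.2

end Groth.Agent.H18Subint
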