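import Groth.Agent.H18Subint.Scheme
import Groth.Agent.H17.Reduced

/-!
# Seminormal schemes
-/

set_option autoImplicit false

universe u

open CategoryTheory Limits AlgebraicGeometry

namespace Groth.Agent.H18Subint

open H17.UnivHomeoAlg

set_option backward.isDefEq.respectTransparency false

theorem isIso_residueFieldMap_of_eq {X Y : Scheme.{u}} {f g : X ⟶ Y} (h : f = g) (x : X)
    (hf : IsIso (f.residueFieldMap x)) : IsIso (g.residueFieldMap x) := by
  subst h; exact hf

theorem residueFieldsIso_comp {X Y Z : Scheme.{u}} (f : X ⟶ Y) (g : Y ⟶ Z)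
    (hf : HTop.ResidueFieldsIso f) (hg : HTop.ResidueFieldsIso g) : HTop.ResidueFieldsIso (f ≫ g) :=
  fun x => by
  rw [Scheme.residueFieldMap_comp]
  haveI := hf x
  haveI := hg (f x)
  infer_instance

theorem residueFieldsIso_of_isOpenImmersion {X Y : Scheme.{u}} (f : X ⟶ Y) [IsOpenImmersion f] :
    HTop.ResidueFieldsIso f := fun _ => inferInstance

theorem residueFieldsIso_of_isClosedImmersion {X Y : Scheme.{u}} (f : X ⟶ Y) [IsClosedImmersion f] :
    HTop.ResidueFieldsIso f := fun x => by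
  refine (ConcreteCategory.isIso_iff_bijective _).mpr ⟨RingHom.injective _, fun z => ?_⟩
  obtain ⟨s, rfl⟩ := IsLocalRing.residue_surjective z
  obtain ⟨t, rfl⟩ := f.stalkMap_surjective x s
  exact ⟨IsLocalRing.residue _ t, rfl⟩

theorem residueFieldsIso_of_comp_right {X Y Z : Scheme.{u}} (f : X ⟶ Y) (g : Y ⟶ Z)
    (h : HTop.ResidueFieldsIso (f ≫ g)) (hg : HTop.ResidueFieldsIso g) : HTop.ResidueFieldsIso f :=
  fun x => by
  haveI := hg (f x)
  have h' := h x
  rw [Scheme.residueFieldMap_comp] at h'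
  exact IsIso.of_isIso_comp_left (g.residueFieldMap (f x)) (f.residueFieldMap x)

theorem residueFieldsIso_app {Y X : Scheme.{u}} (π : Y ⟶ X) [IsAffineHom π] (h : HTop.ResidueFieldsIso π)
    (U : X.affineOpens) : HTop.ResidueFieldsIso (Spec.map (π.app U)) := by
  have hV : IsAffineOpen (π ⁻¹ᵁ (U : X.Opens)) := U.2.preimage π
  have hsq := U.2.SpecMap_appLE_fromSpec π hV le_rfl
  rw [← Scheme.Hom.app_eq_appLE] at hsq
  refine residueFieldsIso_of_comp_right _ U.2.fromSpec (fun x => ?_) (residueFieldsIso_of_isOpenImmersion _)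
  exact isIso_residueFieldMap_of_eq hsq.symm x
    (residueFieldsIso_comp _ _ (residueFieldsIso_of_isOpenImmersion _) h x)

theorem forall_affineOpens_sn {X : Scheme.{u}} (hX : HTop.IsSeminormal X) (U : X.affineOpens) :
    HTop.IsSeminormalRing Γ(X, U) :=
  forall_affineOpens_of_local (fun R _ => HTop.IsSeminormalRing R) (fun e => sn_of_ringEquiv e)
    (fun _ _ f h => sn_localization (Submonoid.powers f) h) (fun _ _ s hs h => sn_of_span s hs h) X hX U

/-- A reduced subintegral extension of a seminormal scheme is an isomorphism. -/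
theorem isIso_of_isSeminormal {Y X : Scheme.{u}} [IsReduced Y] (π : Y ⟶ X) (hX : HTop.IsSeminormal X)
    (hπ : FlatMor.IsUnivHomeo π) (hres : HTop.ResidueFieldsIso π) : IsIso π := by
  haveI := ((H7Flat.isUnivHomeo_iff π).mp hπ).1
  have hbij : ∀ U : X.affineOpens, IsIso (π.app U) := fun U => by
    refine (ConcreteCategory.isIso_iff_bijective _).mpr ?_
    letI := (π.app U).hom.toAlgebra
    obtain ⟨hi, hu, hl⟩ := (isUnivHomeo_iff' (π.app U).hom).mp (isUnivHomeo_app π hπ U)
    have hr : Rg Γ(X, U) Γ(Y, π ⁻¹ᵁ (U : X.Opens)) := rg_iff.mp fun x =>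
      ((ConcreteCategory.isIso_iff_bijective _).mp (residueFieldsIso_app π hres U x)).2
    haveI := hi
    haveI := isReduced_of_sn (forall_affineOpens_sn hX U)
    exact bijective_of_sn (forall_affineOpens_sn hX U) (injective_of_isReduced hl) hu hr
  change MorphismProperty.isomorphisms Scheme.{u} π
  rw [HasAffineProperty.iff_of_iSup_eq_top (P := MorphismProperty.isomorphisms Scheme.{u}) _
    (iSup_affineOpens_eq_top X)]
  intro U
  refine ⟨U.2.preimage π, ?_⟩
  haveI := hbij U
  rw [morphismRestrict_appTop]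
  haveI : IsIso (π.app ((U : X.Opens).ι ''ᵁ ⊤)) := by
    rw [Scheme.Opens.ι_image_top]; exact hbij U
  infer_instance

theorem isIso_of_seminormalization {X' X : Scheme.{u}} (ν : X' ⟶ X) (hν : HTop.IsSeminormalization ν)
    (hX : HTop.IsSeminormal X) : IsIso ν := by
  let I := Scheme.IdealSheafData.vanishingIdeal (⊤ : TopologicalSpace.Closeds X')
  let ι := I.subschemeι
  haveI : IsReduced I.subscheme := H17.isReduced_vanishingIdeal_subscheme _
  haveI : Surjective ι := ⟨fun x => (H17.range_vanishingIdeal_subschemeι (⊤ : TopologicalSpace.Closeds X')).ge trivial⟩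
  obtain ⟨h1, h2, h3⟩ := (H7Flat.isUnivHomeo_iff ν).mp hν.1.1
  have hι : FlatMor.IsUnivHomeo (ι ≫ ν) := (H7Flat.isUnivHomeo_iff _).mpr
    ⟨inferInstance, MorphismProperty.comp_mem _ _ _ inferInstance h2, inferInstance⟩
  have hres : HTop.ResidueFieldsIso (ι ≫ ν) :=
    residueFieldsIso_comp _ _ (residueFieldsIso_of_isClosedImmersion ι) hν.1.2
  haveI := isIso_of_isSeminormal (ι ≫ ν) hX hι hres
  refine ⟨inv (ι ≫ ν) ≫ ι, ?_, by rw [Category.assoc, IsIso.inv_hom_id]⟩
  exact (hν.2 X' ν hν.1.1 hν.1.2).unique (by rw [Category.assoc, Category.assoc, IsIso.inv_hom_id,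
    Category.comp_id]) (Category.id_comp ν)

theorem exists_lift_of_residueFieldsIso {X Y : Scheme.{u}} (f : Y ⟶ X) [Surjective f]
    (h : HTop.ResidueFieldsIso f) (K : Type u) [Field K] (g : Spec (CommRingCat.of K) ⟶ X) :
    ∃ l : Spec (CommRingCat.of K) ⟶ Y, l ≫ f = g := by
  obtain ⟨⟨x, φ⟩, rfl⟩ := (X.SpecToEquivOfField K).symm.surjective g
  obtain ⟨y, rfl⟩ := f.surjective x
  haveI := h y
  refine ⟨Spec.map (inv (f.residueFieldMap y) ≫ φ) ≫ Y.fromSpecResidueField y, ?_⟩
  rw [Category.assoc, ← Scheme.Hom.SpecMap_residueFieldMap_fromSpecResidueField, ← Spec.map_comp_assoc,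
    IsIso.hom_inv_id_assoc]
  rfl

theorem residueFieldsIso_of_exists_lift {X Y : Scheme.{u}} (f : Y ⟶ X) [UniversallyInjective f]
    (h : ∀ y : Y, ∃ l : Spec (X.residueField (f y)) ⟶ Y, l ≫ f = X.fromSpecResidueField (f y)) :
    HTop.ResidueFieldsIso f := fun y => by
  obtain ⟨l, hl⟩ := h y
  obtain ⟨⟨y', φ⟩, rfl⟩ := (Y.SpecToEquivOfField (X.residueField (f y))).symm.surjective l
  let c : Spec (X.residueField (f y)) := IsLocalRing.closedPoint (X.residueField (f y))
  obtain rfl : y' = y := f.injective (by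
    have := congrArg (fun k => k c) hl
    simpa [Scheme.SpecToEquivOfField_symm_apply] using this)
  have hφ : f.residueFieldMap y' ≫ φ = 𝟙 _ := by
    refine Spec.map_injective ((cancel_mono (X.fromSpecResidueField (f y'))).mp ?_)
    rw [Spec.map_comp, Spec.map_id]
    refine ((Category.assoc _ _ _).trans ?_).trans (Category.id_comp _).symm
    rw [Scheme.Hom.SpecMap_residueFieldMap_fromSpecResidueField, ← Category.assoc]
    exact hl
  exact (ConcreteCategory.isIso_iff_bijective _).mpr ⟨RingHom.injective _, fun z =>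
    ⟨φ.hom z, φ.hom.injective (congrArg (fun k => k.hom (φ.hom z)) hφ)⟩⟩

theorem residueFieldsIso_pullback_fst {X Y Z : Scheme.{u}} (g : Z ⟶ X) (f : Y ⟶ X)
    [UniversallyInjective f] [Surjective f] (h : HTop.ResidueFieldsIso f) :
    HTop.ResidueFieldsIso (pullback.fst g f) := by
  haveI : UniversallyInjective (pullback.fst g f) := MorphismProperty.of_isPullback
    (P := @UniversallyInjective) (IsPullback.of_hasPullback g f).flip ‹_›
  refine residueFieldsIso_of_exists_lift _ fun p => ?_
  obtain ⟨l, hl⟩ := exists_lift_of_residueFieldsIso f h (Z.residueField (pullback.fst g f p))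
    (Z.fromSpecResidueField (pullback.fst g f p) ≫ g)
  exact ⟨pullback.lift _ l hl.symm, pullback.lift_fst _ _ _⟩

theorem isReduced_of_isSeminormal {X : Scheme.{u}} (hX : HTop.IsSeminormal X) : IsReduced X := by
  haveI : ∀ x : X, _root_.IsReduced (X.presheaf.stalk x) := fun x => by
    obtain ⟨⟨U, hU⟩, hxU, hUs⟩ := hX x
    haveI := isReduced_of_sn hUs
    letI := TopCat.Presheaf.algebra_section_stalk X.presheaf ⟨x, hxU⟩
    have := hU.isLocalization_stalk ⟨x, hxU⟩
    exact isReduced_localizationPreserves (hU.primeIdealOf ⟨x, hxU⟩).asIdeal.primeCompl (X.presheaf.stalk x) ‹_›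
  exact isReduced_of_isReduced_stalk X

theorem isSeminormal_of_isOpenImmersion {X Y : Scheme.{u}} (f : Y ⟶ X) [IsOpenImmersion f]
    (hX : HTop.IsSeminormal X) : HTop.IsSeminormal Y := fun y => by
  obtain ⟨V, hV, hy, -⟩ := exists_isAffineOpen_mem_and_subset (U := ⊤) (Set.mem_univ y)
  exact ⟨⟨V, hV⟩, hy, sn_of_ringEquiv (f.appIso V).commRingCatIsoToRingEquiv
    (forall_affineOpens_sn hX ⟨f ''ᵁ V, hV.image_of_isOpenImmersion f⟩)⟩

/-- A subintegral morphism from a seminormal scheme is a seminormalization. -/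
theorem exists_section_of_subintegral {T Y X : Scheme.{u}} (g : T ⟶ X) (hT : HTop.IsSeminormal T)
    (π : Y ⟶ X) (hπ : FlatMor.IsUnivHomeo π) (hres : HTop.ResidueFieldsIso π) :
    ∃ h : T ⟶ Y, h ≫ π = g := by
  obtain ⟨h1, h2, h3⟩ := (H7Flat.isUnivHomeo_iff π).mp hπ
  haveI := h1; haveI := h2; haveI := h3
  let I := Scheme.IdealSheafData.vanishingIdeal (⊤ : TopologicalSpace.Closeds (pullback g π : Scheme.{u}))
  let ι := I.subschemeι
  haveI : IsReduced I.subscheme := H17.isReduced_vanishingIdeal_subscheme _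
  haveI : Surjective ι := ⟨fun x => (H17.range_vanishingIdeal_subschemeι
    (⊤ : TopologicalSpace.Closeds (pullback g π : Scheme.{u}))).ge trivial⟩
  haveI : UniversallyInjective (pullback.fst g π) := MorphismProperty.of_isPullback
    (P := @UniversallyInjective) (IsPullback.of_hasPullback g π).flip h2
  haveI : Surjective (pullback.fst g π) := MorphismProperty.of_isPullback
    (P := @Surjective) (IsPullback.of_hasPullback g π).flip h3
  have hu : FlatMor.IsUnivHomeo (ι ≫ pullback.fst g π) := (H7Flat.isUnivHomeo_iff _).mpr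
    ⟨inferInstance, MorphismProperty.comp_mem _ _ _ inferInstance ‹_›, inferInstance⟩
  haveI := isIso_of_isSeminormal (ι ≫ pullback.fst g π) hT hu
    (residueFieldsIso_comp _ _ (residueFieldsIso_of_isClosedImmersion ι) (residueFieldsIso_pullback_fst g π hres))
  refine ⟨inv (ι ≫ pullback.fst g π) ≫ ι ≫ pullback.snd g π, ?_⟩
  rw [Category.assoc, Category.assoc, ← pullback.condition, ← Category.assoc ι, IsIso.inv_hom_id_assoc]

theorem isSeminormalization_of_isSeminormal {X' X : Scheme.{u}} (ν : X' ⟶ X)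
    (hu : FlatMor.IsUnivHomeo ν) (hr : HTop.ResidueFieldsIso ν) (hX' : HTop.IsSeminormal X') :
    HTop.IsSeminormalization ν := by
  refine ⟨⟨hu, hr⟩, fun Y π hπ hres => ?_⟩
  obtain ⟨h, hh⟩ := exists_section_of_subintegral ν hX' π hπ hres
  obtain ⟨h1, h2, -⟩ := (H7Flat.isUnivHomeo_iff π).mp hπ
  haveI := h1; haveI := h2; haveI := isReduced_of_isSeminormal hX'
  exact ⟨h, hh, fun k hk => hom_ext_of_reduced π (hk.trans hh.symm)⟩

theorem isSeminormalization_restrict {X' X : Scheme.{u}} (ν : X' ⟶ X) (hν : HTop.IsSeminormalization ν)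
    (hX' : HTop.IsSeminormal X') (U : X.Opens) : HTop.IsSeminormalization (ν ∣_ U) := by
  refine isSeminormalization_of_isSeminormal _ ?_ ?_ (isSeminormal_of_isOpenImmersion (ν ⁻¹ᵁ U).ι hX')
  · haveI : (FlatMor.IsUnivHomeo : MorphismProperty Scheme.{u}).IsStableUnderBaseChange :=
      MorphismProperty.universally_isStableUnderBaseChange _
    exact MorphismProperty.of_isPullback (P := FlatMor.IsUnivHomeo) (isPullback_morphismRestrict ν U).flip hν.1.1
  · refine residueFieldsIso_of_comp_right _ U.ι (fun x => ?_) (residueFieldsIso_of_isOpenImmersion _)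
    exact isIso_residueFieldMap_of_eq (morphismRestrict_ι ν U).symm x
      (residueFieldsIso_comp _ _ (residueFieldsIso_of_isOpenImmersion _) hν.1.2 x)

end Groth.Agent.H18Subint
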