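import Groth.Agent.H18Subint.Local
import Mathlib.AlgebraicGeometry.Morphisms.Separated
import Mathlib.AlgebraicGeometry.Sites.SmallAffineZariski

/-!
# Universal homeomorphisms of schemes and weak normality
-/

set_option autoImplicit false

universe u

open CategoryTheory Limits AlgebraicGeometry

namespace Groth.Agent.H18Subint

open H17.UnivHomeoAlg

set_option backward.isDefEq.respectTransparency false

/-- Maps from a reduced scheme into a separated radicial one are determined by their composites. -/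
theorem hom_ext_of_reduced {T Y X : Scheme.{u}} [IsReduced T] (π : Y ⟶ X) [IsSeparated π]
    [UniversallyInjective π] {f g : T ⟶ Y} (h : f ≫ π = g ≫ π) : f = g := by
  let c : T ⟶ pullback π π := pullback.lift f g h
  let ι : pullback (pullback.diagonal π) c ⟶ T := pullback.snd _ _
  haveI : Surjective (pullback.diagonal π) := (UniversallyInjective.iff_diagonal π).mp ‹_›
  haveI : Surjective ι := inferInstance
  haveI : IsDominant ι := inferInstance
  refine ext_of_isDominant_of_isSeparated π h ι ?_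
  have hc : ι ≫ c = pullback.fst _ _ ≫ pullback.diagonal π := pullback.condition.symm
  calc ι ≫ f = (ι ≫ c) ≫ pullback.fst π π := by rw [Category.assoc, pullback.lift_fst]
    _ = (ι ≫ c) ≫ pullback.snd π π := by
      rw [hc, Category.assoc, Category.assoc, pullback.diagonal_fst, pullback.diagonal_snd]
    _ = ι ≫ g := by rw [Category.assoc, pullback.lift_snd]

/-- Being a universal homeomorphism is local on the target. -/
theorem isUnivHomeo_of_openCover {Y X : Scheme.{u}} (π : Y ⟶ X) {ι : Type u} (U : ι → X.Opens)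
    (hU : TopologicalSpace.IsOpenCover U) (h : ∀ i, FlatMor.IsUnivHomeo (π ∣_ U i)) :
    FlatMor.IsUnivHomeo π := by
  simp only [H7Flat.isUnivHomeo_iff] at h ⊢
  exact ⟨IsZariskiLocalAtTarget.of_iSup_eq_top (P := @IsIntegralHom) U hU fun i => (h i).1,
    IsZariskiLocalAtTarget.of_iSup_eq_top (P := @UniversallyInjective) U hU fun i => (h i).2.1,
    IsZariskiLocalAtTarget.of_iSup_eq_top (P := @Surjective) U hU fun i => (h i).2.2⟩

/-- The ring map of a universal homeomorphism over an affine open. -/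
theorem isUnivHomeo_app {Y X : Scheme.{u}} (π : Y ⟶ X) (h : FlatMor.IsUnivHomeo π) (U : X.affineOpens) :
    FlatMor.IsUnivHomeo (Spec.map (π.app U)) := by
  obtain ⟨h1, h2, h3⟩ := (H7Flat.isUnivHomeo_iff π).mp h
  haveI := h1
  have hV : IsAffineOpen (π ⁻¹ᵁ (U : X.Opens)) := U.2.preimage π
  have e : π.appLE U (π ⁻¹ᵁ (U : X.Opens)) le_rfl = π.app U := (π.app_eq_appLE (U := U)).symm
  have hsq := U.2.SpecMap_appLE_fromSpec π hV le_rfl
  rw [e] at hsq
  rw [H7Flat.isUnivHomeo_iff]
  refine ⟨IsIntegralHom.SpecMap_iff.mpr (IsIntegralHom.isIntegral_app π U U.2), ?_, ⟨fun y => ?_⟩⟩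
  · have hc : UniversallyInjective (Spec.map (π.app U) ≫ U.2.fromSpec) := by
      rw [hsq]
      exact MorphismProperty.comp_mem _ _ _ inferInstance h2
    exact H7Flat.universallyInjective_of_comp (Spec.map (π.app U)) U.2.fromSpec (hgh := hc)
  · obtain ⟨x, hx⟩ := h3.surj (U.2.fromSpec y)
    obtain ⟨z, rfl⟩ := hV.range_fromSpec.ge (show x ∈ π ⁻¹ᵁ (U : X.Opens) by
      show π x ∈ (U : X.Opens)
      rw [hx]
      exact U.2.range_fromSpec.le ⟨y, rfl⟩)
    refine ⟨z, U.2.fromSpec.isOpenEmbedding.injective ?_⟩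
    rw [← hx, ← Scheme.Hom.comp_apply, hsq, Scheme.Hom.comp_apply]

theorem isAWN_of_openCover {Y : Scheme.{u}} (𝒰 : Y.OpenCover) (R : 𝒰.I₀ → CommRingCat.{u})
    (e : ∀ i, 𝒰.X i ≅ Spec (R i)) (h : ∀ i, HTop.IsAWNRing (R i)) : HTop.IsAWN Y := by
  intro y
  obtain ⟨i, z, rfl⟩ := 𝒰.exists_eq y
  haveI : IsAffine (𝒰.X i) := IsAffine.of_isIso (e i).hom
  refine ⟨⟨(𝒰.f i).opensRange, isAffineOpen_opensRange _⟩, ⟨z, rfl⟩, ?_⟩
  exact awn_of_ringEquiv (((Scheme.ΓSpecIso (R i)).symm ≪≫ asIso (e i).hom.appTop ≪≫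
    IsOpenImmersion.ΓIsoTop (𝒰.f i)).commRingCatIsoToRingEquiv) (h i)

/-- A reduced universal homeomorphism to an absolutely weakly normal scheme is an isomorphism. -/
theorem isIso_of_isAWN {Y X : Scheme.{u}} [IsReduced Y] (π : Y ⟶ X) (hX : HTop.IsAWN X)
    (hπ : FlatMor.IsUnivHomeo π) : IsIso π := by
  haveI := ((H7Flat.isUnivHomeo_iff π).mp hπ).1
  have hall : ∀ U : X.affineOpens, HTop.IsAWNRing Γ(X, U) := forall_affineOpens_of_local
    (fun R _ => HTop.IsAWNRing R) (fun e => awn_of_ringEquiv e)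
    (fun R _ f h => awn_localization (Submonoid.powers f) h) (fun R _ s hs h => awn_of_span s hs h) X hX
  have hbij : ∀ U : X.affineOpens, IsIso (π.app U) := fun U => by
    refine (ConcreteCategory.isIso_iff_bijective _).mpr ?_
    letI := (π.app U).hom.toAlgebra
    obtain ⟨hi, hu, hl⟩ := (isUnivHomeo_iff' (π.app U).hom).mp (isUnivHomeo_app π hπ U)
    haveI := hi
    haveI := isReduced_of_sn (hall U).1
    haveI : _root_.IsReduced Γ(Y, π ⁻¹ᵁ (U : X.Opens)) := inferInstance
    exact bijective_of_awn (hall U) (injective_of_isReduced hl) hu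
  change MorphismProperty.isomorphisms Scheme.{u} π
  rw [HasAffineProperty.iff_of_iSup_eq_top (P := MorphismProperty.isomorphisms Scheme.{u}) _
    (iSup_affineOpens_eq_top X)]
  intro U
  refine ⟨U.2.preimage π, ?_⟩
  haveI := hbij U
  have : IsIso (π.app (U : X.Opens)) := ‹_›
  rw [morphismRestrict_appTop]
  haveI : IsIso (π.app ((U : X.Opens).ι ''ᵁ ⊤)) := by
    rw [Scheme.Opens.ι_image_top]; exact this
  infer_instance

end Groth.Agent.H18Subint
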