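import Groth.Agent.H17.UnivHomeoAlg
import Mathlib.RingTheory.TensorProduct.Basic

/-!
# Weak subintegral closure via the tensor square
-/

set_option autoImplicit false

universe u

open TensorProduct

namespace Groth.Agent.H18Subint

open H17.UnivHomeoAlg

variable (A B : Type u) [CommRing A] [CommRing B] [Algebra A B]

/-- The elements which cannot be separated by two field valued points agreeing on `A`. -/
def agree : Subalgebra A B where
  carrier := {b | ∀ (L : Type u) [Field L] (ψ ψ' : B →+* L),
    ψ.comp (algebraMap A B) = ψ'.comp (algebraMap A B) → ψ b = ψ' b}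
  mul_mem' {a b} ha hb L _ ψ ψ' h := by rw [map_mul, map_mul, ha L ψ ψ' h, hb L ψ ψ' h]
  add_mem' {a b} ha hb L _ ψ ψ' h := by rw [map_add, map_add, ha L ψ ψ' h, hb L ψ ψ' h]
  algebraMap_mem' a L _ ψ ψ' h := DFunLike.congr_fun h a

variable {A B}

theorem mem_agree_iff {b : B} :
    b ∈ agree A B ↔ IsNilpotent (b ⊗ₜ[A] (1 : B) - (1 : B) ⊗ₜ[A] b) := by
  constructor
  · intro hb
    rw [nilpotent_iff_mem_prime]
    intro P hP
    let L := P.ResidueField
    let r := algebraMap (B ⊗[A] B) L
    have h := hb L (r.comp Algebra.TensorProduct.includeLeftRingHom)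
      (r.comp (Algebra.TensorProduct.includeRight : B →ₐ[A] B ⊗[A] B).toRingHom) (by
        ext a
        show r (algebraMap A B a ⊗ₜ 1) = r (1 ⊗ₜ algebraMap A B a)
        exact congrArg r (((Algebra.TensorProduct.includeLeft : B →ₐ[A] B ⊗[A] B).commutes a).trans
          ((Algebra.TensorProduct.includeRight : B →ₐ[A] B ⊗[A] B).commutes a).symm))
    rw [← Ideal.algebraMap_residueField_eq_zero, map_sub, sub_eq_zero]
    exact h
  · intro hn L _ ψ ψ' h
    letI := (ψ.comp (algebraMap A B)).toAlgebra
    let f : B →ₐ[A] L := { ψ with commutes' := fun _ => rfl }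
    let f' : B →ₐ[A] L := { ψ' with commutes' := fun a => (DFunLike.congr_fun h a).symm }
    have := (hn.map (Algebra.TensorProduct.lift f f' fun _ _ => Commute.all _ _)).eq_zero
    simpa [f, f', sub_eq_zero] using this

theorem le_agree {C : Subalgebra A B} (hC : Uq A C) : C ≤ agree A B := fun c hc L _ ψ ψ' h =>
  DFunLike.congr_fun (hC L (ψ.comp C.val.toRingHom) (ψ'.comp C.val.toRingHom)
    (RingHom.ext fun a => DFunLike.congr_fun h a)) ⟨c, hc⟩

variable (hinj : Function.Injective (algebraMap A B)) [Algebra.IsIntegral A B]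
include hinj

theorem isUnivHomeo_agree :
    FlatMor.IsUnivHomeo
      (AlgebraicGeometry.Spec.map (CommRingCat.ofHom (algebraMap A (agree A B)))) := by
  haveI hEB : Algebra.IsIntegral (agree A B) B := Algebra.IsIntegral.tower_top (R := A)
  have hEi : Algebra.IsIntegral A (agree A B) := ⟨fun x =>
    (isIntegral_algHom_iff (agree A B).val Subtype.val_injective).mp (Algebra.IsIntegral.isIntegral _)⟩
  rw [isUnivHomeo_iff]
  refine ⟨hEi, fun L _ ψ ψ' h => RingHom.ext fun e => ?_, lf_of_integral fun a ha => ⟨1, ?_⟩⟩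
  · have hl : Lf (agree A B) B := lf_of_integral fun a ha => ⟨1, by rw [pow_one]; exact Subtype.ext ha⟩
    let j := algebraMap L (AlgebraicClosure L)
    obtain ⟨χ, hχ⟩ := hl _ (j.comp ψ)
    obtain ⟨χ', hχ'⟩ := hl _ (j.comp ψ')
    refine j.injective ((DFunLike.congr_fun hχ e).symm.trans ((e.2 _ χ χ' ?_).trans (DFunLike.congr_fun hχ' e)))
    refine RingHom.ext fun a => ?_
    refine (DFunLike.congr_fun hχ (algebraMap A _ a)).trans (Eq.trans ?_ (DFunLike.congr_fun hχ' (algebraMap A _ a)).symm)
    exact congrArg j (DFunLike.congr_fun h a)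
  · rw [pow_one]
    exact hinj ((congrArg Subtype.val ha).trans (map_zero _).symm)

end Groth.Agent.H18Subint
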